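import Mathlib
import Cfsg.Prelude.Def_ClassicalGeometry

set_option autoImplicit false
open Cfsg
open scoped Matrix

namespace Cfsg.Agent.Lib.Helper5.Symp

variable {F : Type*} [CommRing F] (m : ℕ)

theorem J_mulVec_inl (v : Fin m ⊕ Fin m → F) (i : Fin m) :
    (Matrix.J (Fin m) F *ᵥ v) (Sum.inl i) = - v (Sum.inr i) := by
  simp [Matrix.J, Matrix.mulVec, dotProduct, Fintype.sum_sum_type, Matrix.one_apply]

theorem J_mulVec_inr (v : Fin m ⊕ Fin m → F) (i : Fin m) :
    (Matrix.J (Fin m) F *ᵥ v) (Sum.inr i) = v (Sum.inl i) := by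
  simp [Matrix.J, Matrix.mulVec, dotProduct, Fintype.sum_sum_type, Matrix.one_apply]

theorem dot_J_self (v : Fin m ⊕ Fin m → F) : v ⬝ᵥ (Matrix.J (Fin m) F *ᵥ v) = 0 := by
  simp only [dotProduct, Fintype.sum_sum_type, J_mulVec_inl, J_mulVec_inr]
  rw [← Finset.sum_add_distrib]
  apply Finset.sum_eq_zero
  intro i _
  ring

theorem J_mulVec_J_mulVec (v : Fin m ⊕ Fin m → F) :
    Matrix.J (Fin m) F *ᵥ (Matrix.J (Fin m) F *ᵥ v) = -v := by
  rw [Matrix.mulVec_mulVec, Matrix.J_squared, Matrix.neg_mulVec, Matrix.one_mulVec]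

theorem J_mulVec_vecMul_J (v : Fin m ⊕ Fin m → F) :
    (Matrix.J (Fin m) F *ᵥ v) ᵥ* Matrix.J (Fin m) F = v := by
  rw [← Matrix.vecMul_transpose, Matrix.vecMul_vecMul, Matrix.J_transpose, Matrix.neg_mul,
    Matrix.J_squared, neg_neg, Matrix.vecMul_one]

theorem sympForm_def (u v : Fin m ⊕ Fin m → F) :
    Cfsg.sympForm m F u v = u ⬝ᵥ (Matrix.J (Fin m) F *ᵥ v) := rfl

theorem sympForm_eq_sum (u v : Fin m ⊕ Fin m → F) :
    Cfsg.sympForm m F u v =
      ∑ i : Fin m, (u (Sum.inr i) * v (Sum.inl i) - u (Sum.inl i) * v (Sum.inr i)) := by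
  simp only [sympForm_def, dotProduct, Fintype.sum_sum_type, J_mulVec_inl, J_mulVec_inr]
  rw [← Finset.sum_add_distrib]
  apply Finset.sum_congr rfl
  intro i _
  ring

theorem sympForm_add_left (u u' v : Fin m ⊕ Fin m → F) :
    Cfsg.sympForm m F (u + u') v = Cfsg.sympForm m F u v + Cfsg.sympForm m F u' v := by
  simp only [sympForm_def, add_dotProduct]

theorem sympForm_add_right (u v v' : Fin m ⊕ Fin m → F) :
    Cfsg.sympForm m F u (v + v') = Cfsg.sympForm m F u v + Cfsg.sympForm m F u v' := by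
  simp only [sympForm_def, Matrix.mulVec_add, dotProduct_add]

theorem sympForm_smul_left (c : F) (u v : Fin m ⊕ Fin m → F) :
    Cfsg.sympForm m F (c • u) v = c * Cfsg.sympForm m F u v := by
  simp only [sympForm_def, smul_dotProduct, smul_eq_mul]

theorem sympForm_smul_right (c : F) (u v : Fin m ⊕ Fin m → F) :
    Cfsg.sympForm m F u (c • v) = c * Cfsg.sympForm m F u v := by
  simp only [sympForm_def, Matrix.mulVec_smul, dotProduct_smul, smul_eq_mul]

theorem sympForm_self (u : Fin m ⊕ Fin m → F) : Cfsg.sympForm m F u u = 0 :=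
  dot_J_self m u

theorem sympForm_zero_left (v : Fin m ⊕ Fin m → F) : Cfsg.sympForm m F 0 v = 0 := by
  simp only [sympForm_def, zero_dotProduct]

theorem sympForm_zero_right (u : Fin m ⊕ Fin m → F) : Cfsg.sympForm m F u 0 = 0 := by
  simp only [sympForm_def, Matrix.mulVec_zero, dotProduct_zero]

theorem sympForm_swap (u v : Fin m ⊕ Fin m → F) :
    Cfsg.sympForm m F u v = - Cfsg.sympForm m F v u := by
  have h := sympForm_self m (u + v)
  rw [sympForm_add_left, sympForm_add_right, sympForm_add_right, sympForm_self, sympForm_self,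
    zero_add, add_zero] at h
  exact eq_neg_of_add_eq_zero_left h

theorem sympForm_neg_left (u v : Fin m ⊕ Fin m → F) :
    Cfsg.sympForm m F (-u) v = - Cfsg.sympForm m F u v := by
  simp only [sympForm_def, neg_dotProduct]

theorem sympForm_neg_right (u v : Fin m ⊕ Fin m → F) :
    Cfsg.sympForm m F u (-v) = - Cfsg.sympForm m F u v := by
  simp only [sympForm_def, Matrix.mulVec_neg, dotProduct_neg]

theorem sympForm_sub_left (u u' v : Fin m ⊕ Fin m → F) :
    Cfsg.sympForm m F (u - u') v = Cfsg.sympForm m F u v - Cfsg.sympForm m F u' v := by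
  rw [sub_eq_add_neg, sympForm_add_left, sympForm_neg_left, ← sub_eq_add_neg]

theorem sympForm_sub_right (u v v' : Fin m ⊕ Fin m → F) :
    Cfsg.sympForm m F u (v - v') = Cfsg.sympForm m F u v - Cfsg.sympForm m F u v' := by
  rw [sub_eq_add_neg, sympForm_add_right, sympForm_neg_right, ← sub_eq_add_neg]

theorem sympForm_single_inl (x : Fin m ⊕ Fin m → F) (i : Fin m) :
    Cfsg.sympForm m F x (Pi.single (Sum.inl i) 1) = x (Sum.inr i) := by
  rw [sympForm_eq_sum]
  simp [Pi.single_apply]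

theorem sympForm_single_inr (x : Fin m ⊕ Fin m → F) (i : Fin m) :
    Cfsg.sympForm m F x (Pi.single (Sum.inr i) 1) = - x (Sum.inl i) := by
  rw [sympForm_eq_sum]
  simp [Pi.single_apply]

theorem eq_zero_of_sympForm_eq_zero (x : Fin m ⊕ Fin m → F)
    (h : ∀ b, Cfsg.sympForm m F x b = 0) : x = 0 := by
  ext i
  rcases i with i | i
  · have := h (Pi.single (Sum.inr i) 1)
    rw [sympForm_single_inr] at this
    simpa using this
  · have := h (Pi.single (Sum.inl i) 1)
    rw [sympForm_single_inl] at this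
    simpa using this

theorem sympTransvection_mulVec (w : Fin m ⊕ Fin m → F) (c : F) (x : Fin m ⊕ Fin m → F) :
    Cfsg.sympTransvection m w c *ᵥ x = x + (c * Cfsg.sympForm m F x w) • w := by
  unfold Cfsg.sympTransvection
  rw [Matrix.add_mulVec, Matrix.one_mulVec, Matrix.smul_mulVec, Matrix.vecMulVec_mulVec,
    op_smul_eq_smul, smul_smul, dotProduct_comm, sympForm_def]

theorem sympTransvection_mem (v : Fin m ⊕ Fin m → F) (c : F) :
    Cfsg.sympTransvection m v c ∈ Matrix.symplecticGroup (Fin m) F := by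
  rw [SymplecticGroup.mem_iff]
  unfold Cfsg.sympTransvection
  have h1 : Matrix.vecMulVec v (Matrix.J (Fin m) F *ᵥ v) * Matrix.J (Fin m) F =
      Matrix.vecMulVec v v := by
    rw [Matrix.vecMulVec_mul, J_mulVec_vecMul_J]
  have h2 : Matrix.J (Fin m) F * Matrix.vecMulVec (Matrix.J (Fin m) F *ᵥ v) v =
      - Matrix.vecMulVec v v := by
    rw [Matrix.mul_vecMulVec, J_mulVec_J_mulVec, Matrix.neg_vecMulVec]
  have h3 : Matrix.vecMulVec v v * Matrix.vecMulVec (Matrix.J (Fin m) F *ᵥ v) v = 0 := by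
    rw [Matrix.vecMulVec_mul_vecMulVec, dot_J_self, zero_smul, Matrix.vecMulVec_zero]
  rw [Matrix.transpose_add, Matrix.transpose_one, Matrix.transpose_smul, Matrix.transpose_vecMulVec]
  simp only [Matrix.add_mul, Matrix.mul_add, Matrix.one_mul, Matrix.mul_one, Matrix.smul_mul,
    Matrix.mul_smul, h1, h2, h3]
  simp

theorem sympForm_mulVec_of_mem {A : Matrix (Fin m ⊕ Fin m) (Fin m ⊕ Fin m) F}
    (hA : A ∈ Matrix.symplecticGroup (Fin m) F) (u v : Fin m ⊕ Fin m → F) :
    Cfsg.sympForm m F (A *ᵥ u) (A *ᵥ v) = Cfsg.sympForm m F u v := by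
  have h := SymplecticGroup.mem_iff'.mp hA
  simp only [sympForm_def]
  rw [Matrix.mulVec_mulVec, ← Matrix.vecMul_transpose, ← Matrix.dotProduct_mulVec,
    Matrix.mulVec_mulVec, ← Matrix.mul_assoc, h]

theorem mem_of_sympForm_mulVec {A : Matrix (Fin m ⊕ Fin m) (Fin m ⊕ Fin m) F}
    (hA : ∀ u v, Cfsg.sympForm m F (A *ᵥ u) (A *ᵥ v) = Cfsg.sympForm m F u v) :
    A ∈ Matrix.symplecticGroup (Fin m) F := by
  rw [SymplecticGroup.mem_iff']
  ext i j
  have h := hA (Pi.single i 1) (Pi.single j 1)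
  simp only [sympForm_def] at h
  rw [Matrix.mulVec_mulVec, ← Matrix.vecMul_transpose, ← Matrix.dotProduct_mulVec,
    Matrix.mulVec_mulVec, ← Matrix.mul_assoc] at h
  simpa using h

end Cfsg.Agent.Lib.Helper5.Symp
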