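import Mathlib
import Cfsg.Agent.Lib.Helper5.Symp

set_option autoImplicit false
open Cfsg

namespace Cfsg.Agent.Lib.Helper5.SympCount

universe u v

/-- Counting by fibres of constant size. -/
theorem card_eq_of_fibers {α β : Type*} [Finite α] [Finite β] (π : α → β) (c : ℕ)
    (h : ∀ y, Nat.card {x // π x = y} = c) : Nat.card α = Nat.card β * c := by
  classical
  have := Fintype.ofFinite β
  rw [← Nat.card_congr (Equiv.sigmaFiberEquiv π), Nat.card_sigma]
  simp only [h, Finset.sum_const, Finset.card_univ, smul_eq_mul, Nat.card_eq_fintype_card]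

variable {F : Type v} [Field F]

theorem card_ker_mul {V W : Type*} [AddCommGroup V] [Module F V] [AddCommGroup W] [Module F W]
    (φ : V →ₗ[F] W) (hφ : Function.Surjective φ) :
    Nat.card (LinearMap.ker φ) * Nat.card W = Nat.card V := by
  rw [Submodule.card_eq_card_quotient_mul_card (LinearMap.ker φ),
    Nat.card_congr (φ.quotKerEquivOfSurjective hφ).toEquiv]

theorem surj_of_ne_zero {V : Type*} [AddCommGroup V] [Module F V] (φ : V →ₗ[F] F) (v : V)
    (hv : φ v ≠ 0) : Function.Surjective φ := by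
  intro c
  refine ⟨(c * (φ v)⁻¹) • v, ?_⟩
  rw [map_smul, smul_eq_mul, mul_assoc, inv_mul_cancel₀ hv, mul_one]

/-- Symplectic bases (e, f) with `e i` constrained to lie in `S i`. -/
def IsSB {V : Type u} [AddCommGroup V] [Module F V] (B : LinearMap.BilinForm F V) (m : ℕ)
    (S : Fin m → Submodule F V) (p : (Fin m → V) × (Fin m → V)) : Prop :=
  (∀ i j, B (p.1 i) (p.1 j) = 0) ∧ (∀ i j, B (p.2 i) (p.2 j) = 0) ∧
    (∀ i j, B (p.1 i) (p.2 j) = if i = j then 1 else 0) ∧ ∀ i, p.1 i ∈ S i

section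
variable {V : Type u} [AddCommGroup V] [Module F V] (B : LinearMap.BilinForm F V)

theorem skew (hB : ∀ x, B x x = 0) (x y : V) : B x y = - B y x := by
  have h := hB (x + y)
  simp only [map_add, LinearMap.add_apply, hB, zero_add, add_zero] at h
  exact eq_neg_of_add_eq_zero_right h

/-- The perp of a hyperbolic pair. -/
def perp (e f : V) : Submodule F V := LinearMap.ker (B e) ⊓ LinearMap.ker (B f)

theorem mem_perp (e f x : V) : x ∈ perp B e f ↔ B e x = 0 ∧ B f x = 0 := by
  simp [perp]

theorem card_perp [Finite F] (hB : ∀ x, B x x = 0) (e f : V) (hef : B e f = 1) :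
    Nat.card (perp B e f) * Nat.card F ^ 2 = Nat.card V := by
  have hfe : B f e = -1 := by rw [skew B hB, hef]
  have hs : Function.Surjective ((B e).prod (B f)) := by
    rintro ⟨a, b⟩
    refine ⟨a • f - b • e, ?_⟩
    simp [hB, hef, hfe]
  have := card_ker_mul ((B e).prod (B f)) hs
  rw [LinearMap.ker_prod, Nat.card_prod, ← sq] at this
  exact this

theorem restrict_alt (hB : ∀ x, B x x = 0) (P : Submodule F V) (x : P) : B.restrict P x x = 0 := by
  simp [hB]

theorem restrict_nd (hB : ∀ x, B x x = 0) (hnd : ∀ x, (∀ y, B x y = 0) → x = 0) (e f : V)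
    (hef : B e f = 1) (x : perp B e f) (hx : ∀ y, B.restrict (perp B e f) x y = 0) : x = 0 := by
  have hfe : B f e = -1 := by rw [skew B hB, hef]
  apply Subtype.ext
  apply hnd
  intro v
  have hx2 := (mem_perp B e f x).1 x.2
  have hmem : v - (B e v) • f + (B f v) • e ∈ perp B e f := by
    rw [mem_perp]
    constructor
    · simp [hB, hef]
    · simp [hB, hfe]
  have h1 := hx ⟨_, hmem⟩
  simp only [LinearMap.BilinForm.restrict_apply, LinearMap.domRestrict_apply, map_add, map_sub,
    map_smul, smul_eq_mul] at h1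
  rw [skew B hB (x : V) f, skew B hB (x : V) e, hx2.1, hx2.2] at h1
  simpa using h1

end


section
variable {V : Type u} [AddCommGroup V] [Module F V] (B : LinearMap.BilinForm F V)

/-- The set of `f` with `B e f = 1` is a translate of `ker (B e)`. -/
def pairEquiv (e f₀ : V) (h₀ : B e f₀ = 1) : {f : V // B e f = 1} ≃ LinearMap.ker (B e) where
  toFun f := ⟨f.1 - f₀, by simp [f.2, h₀]⟩
  invFun x := ⟨x.1 + f₀, by
    have := x.2
    rw [LinearMap.mem_ker] at this
    simp [this, h₀]⟩
  left_inv f := by simp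
  right_inv x := by simp

theorem card_pair (hnd : ∀ x, (∀ y, B x y = 0) → x = 0) (e : V) (he : e ≠ 0) :
    Nat.card {f : V // B e f = 1} * Nat.card F = Nat.card V := by
  obtain ⟨y, hy⟩ : ∃ y, B e y ≠ 0 := by
    by_contra hcon
    push Not at hcon
    exact he (hnd e hcon)
  have hs := surj_of_ne_zero (B e) y hy
  obtain ⟨f₀, h₀⟩ := hs 1
  rw [Nat.card_congr (pairEquiv B e f₀ h₀)]
  exact card_ker_mul (B e) hs

theorem card_HP [Finite V] (S : Submodule F V) (N : ℕ)
    (hN : ∀ e : V, e ≠ 0 → Nat.card {f : V // B e f = 1} = N) :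
    Nat.card {p : V × V // B p.1 p.2 = 1 ∧ p.1 ∈ S} = (Nat.card S - 1) * N := by
  classical
  have hne : ∀ p : {p : V × V // B p.1 p.2 = 1 ∧ p.1 ∈ S}, (⟨p.1.1, p.2.2⟩ : S) ≠ 0 := by
    intro p h
    have h' : p.1.1 = 0 := congrArg Subtype.val h
    have := p.2.1
    rw [h'] at this
    simp at this
  let π : {p : V × V // B p.1 p.2 = 1 ∧ p.1 ∈ S} → {e : S // e ≠ 0} :=
    fun p => ⟨⟨p.1.1, p.2.2⟩, hne p⟩
  have hfib : ∀ e : {e : S // e ≠ 0}, Nat.card {x // π x = e} = N := by
    intro e
    rw [← hN e.1.1 (fun h => e.2 (Subtype.ext h))]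
    apply Nat.card_congr
    exact {
      toFun := fun x => ⟨x.1.1.2, by
        have h1 := x.1.2.1
        have h2 : x.1.1.1 = e.1.1 := congrArg (fun z => z.1.1) x.2
        rw [← h2]; exact h1⟩
      invFun := fun f => ⟨⟨(e.1.1, f.1), ⟨f.2, e.1.2⟩⟩, rfl⟩
      left_inv := fun x => by
        have h2 : x.1.1.1 = e.1.1 := congrArg (fun z => z.1.1) x.2
        apply Subtype.ext; apply Subtype.ext
        exact Prod.ext h2.symm rfl
      right_inv := fun f => rfl }
  rw [card_eq_of_fibers π N hfib]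
  congr 1
  have := Finite.card_option (α := {e : S // e ≠ 0})
  rw [Nat.card_congr (Equiv.optionSubtypeNe (0 : S))] at this
  omega

theorem card_comap_perp (hB : ∀ x, B x x = 0) (W₀ : Submodule F V)
    (hW : ∀ x ∈ W₀, ∀ y ∈ W₀, B x y = 0) (e f : V) (hef : B e f = 1) (he : e ∈ W₀) :
    Nat.card (W₀.comap (perp B e f).subtype) * Nat.card F = Nat.card W₀ := by
  have hfe : B f e = -1 := by rw [skew B hB, hef]
  have hs : Function.Surjective ((B f).domRestrict W₀) :=
    surj_of_ne_zero _ ⟨e, he⟩ (by simp [hfe])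
  rw [← card_ker_mul _ hs]
  congr 1
  apply Nat.card_congr
  exact {
    toFun := fun x => ⟨⟨x.1.1, x.2⟩, ((mem_perp B e f x.1.1).1 x.1.2).2⟩
    invFun := fun y => ⟨⟨y.1.1, (mem_perp B e f _).2 ⟨hW e he _ y.1.2, y.2⟩⟩, y.1.2⟩
    left_inv := fun x => rfl
    right_inv := fun y => rfl }

theorem SB_tail_mem {m : ℕ} (hB : ∀ x, B x x = 0) (S : Fin (m + 1) → Submodule F V)
    (p : (Fin (m + 1) → V) × (Fin (m + 1) → V)) (hp : IsSB B (m + 1) S p) (i : Fin m) :
    p.1 i.succ ∈ perp B (p.1 0) (p.2 0) ∧ p.2 i.succ ∈ perp B (p.1 0) (p.2 0) := by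
  obtain ⟨h1, h2, h3, h4⟩ := hp
  refine ⟨(mem_perp B _ _ _).2 ⟨h1 _ _, ?_⟩, (mem_perp B _ _ _).2 ⟨?_, h2 _ _⟩⟩
  · rw [skew B hB, h3, if_neg (Fin.succ_ne_zero i), neg_zero]
  · rw [h3, if_neg (Fin.succ_ne_zero i).symm]

theorem SB_cons {m : ℕ} (hB : ∀ x, B x x = 0) (S : Fin (m + 1) → Submodule F V) (e f : V)
    (hef : B e f = 1) (he : e ∈ S 0)
    (p' : (Fin m → perp B e f) × (Fin m → perp B e f))
    (hp' : IsSB (B.restrict (perp B e f)) m
      (fun i => (S i.succ).comap (perp B e f).subtype) p') :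
    IsSB B (m + 1) S (Fin.cons e (fun i => (p'.1 i : V)), Fin.cons f (fun i => (p'.2 i : V))) := by
  obtain ⟨h1, h2, h3, h4⟩ := hp'
  have he' : ∀ i, B e (p'.1 i) = 0 ∧ B f (p'.1 i) = 0 := fun i => (mem_perp B e f _).1 (p'.1 i).2
  have hf' : ∀ i, B e (p'.2 i) = 0 ∧ B f (p'.2 i) = 0 := fun i => (mem_perp B e f _).1 (p'.2 i).2
  refine ⟨?_, ?_, ?_, ?_⟩
  · intro i j
    refine Fin.cases ?_ (fun i => ?_) i <;> refine Fin.cases ?_ (fun j => ?_) j
    · simp [hB]
    · simpa using (he' j).1
    · simp only [Fin.cons_zero, Fin.cons_succ]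
      rw [skew B hB, (he' i).1, neg_zero]
    · simpa using h1 i j
  · intro i j
    refine Fin.cases ?_ (fun i => ?_) i <;> refine Fin.cases ?_ (fun j => ?_) j
    · simp [hB]
    · simpa using (hf' j).2
    · simp only [Fin.cons_zero, Fin.cons_succ]
      rw [skew B hB, (hf' i).2, neg_zero]
    · simpa using h2 i j
  · intro i j
    refine Fin.cases ?_ (fun i => ?_) i <;> refine Fin.cases ?_ (fun j => ?_) j
    · simp [hef]
    · simp only [Fin.cons_zero, Fin.cons_succ]
      rw [(hf' j).1, if_neg (Fin.succ_ne_zero j).symm]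
    · simp only [Fin.cons_zero, Fin.cons_succ]
      rw [skew B hB, (he' i).2, neg_zero, if_neg (Fin.succ_ne_zero i)]
    · simpa using h3 i j
  · intro i
    refine Fin.cases ?_ (fun i => ?_) i
    · simpa using he
    · simpa using h4 i

theorem card_SB_fiber {m : ℕ} (hB : ∀ x, B x x = 0) (S : Fin (m + 1) → Submodule F V) (e f : V)
    (hef : B e f = 1) (he : e ∈ S 0) :
    Nat.card {x : {p : (Fin (m + 1) → V) × (Fin (m + 1) → V) // IsSB B (m + 1) S p} //
        x.1.1 0 = e ∧ x.1.2 0 = f} =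
      Nat.card {p' : (Fin m → perp B e f) × (Fin m → perp B e f) //
        IsSB (B.restrict (perp B e f)) m (fun i => (S i.succ).comap (perp B e f).subtype) p'} := by
  apply Nat.card_congr
  exact {
    toFun := fun x => ⟨(fun i => ⟨x.1.1.1 i.succ, by
        have := (SB_tail_mem B hB S x.1.1 x.1.2 i).1
        rw [x.2.1, x.2.2] at this
        exact this⟩, fun i => ⟨x.1.1.2 i.succ, by
        have := (SB_tail_mem B hB S x.1.1 x.1.2 i).2
        rw [x.2.1, x.2.2] at this
        exact this⟩), by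
      obtain ⟨h1, h2, h3, h4⟩ := x.1.2
      refine ⟨fun i j => ?_, fun i j => ?_, fun i j => ?_, fun i => ?_⟩
      · simpa using h1 i.succ j.succ
      · simpa using h2 i.succ j.succ
      · simpa using h3 i.succ j.succ
      · simpa using h4 i.succ⟩
    invFun := fun p' => ⟨⟨_, SB_cons B hB S e f hef he p'.1 p'.2⟩, by simp⟩
    left_inv := fun x => by
      apply Subtype.ext; apply Subtype.ext
      refine Prod.ext (funext fun i => ?_) (funext fun i => ?_)
      · refine Fin.cases ?_ (fun i => ?_) i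
        · simpa using x.2.1.symm
        · simp
      · refine Fin.cases ?_ (fun i => ?_) i
        · simpa using x.2.2.symm
        · simp
    right_inv := fun p' => by
      apply Subtype.ext
      refine Prod.ext (funext fun i => ?_) (funext fun i => ?_)
      · apply Subtype.ext; simp
      · apply Subtype.ext; simp }

end


/-- The number of symplectic bases of a `2m`-dimensional symplectic space over `F_q` whose first
`k` vectors `e i` lie in a fixed totally isotropic `k`-dimensional subspace. -/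
def cnt (q : ℕ) : ℕ → ℕ → ℕ
  | 0, _ => 1
  | (m + 1), 0 => (q ^ (2 * m + 2) - 1) * q ^ (2 * m + 1) * cnt q m 0
  | (m + 1), (k + 1) => (q ^ (k + 1) - 1) * q ^ (2 * m + 1) * cnt q m k

theorem cnt_zero (q k : ℕ) : cnt q 0 k = 1 := by
  cases k <;> rfl

theorem card_SB [Finite F] (q : ℕ) (hq : Nat.card F = q) :
    ∀ (m k : ℕ) (V : Type u) [AddCommGroup V] [Module F V] [Finite V]
      (B : LinearMap.BilinForm F V) (_ : ∀ x, B x x = 0)
      (_ : ∀ x, (∀ y, B x y = 0) → x = 0) (_ : Nat.card V = q ^ (2 * m))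
      (W₀ : Submodule F V) (_ : ∀ x ∈ W₀, ∀ y ∈ W₀, B x y = 0) (_ : Nat.card W₀ = q ^ k),
      Nat.card {p : (Fin m → V) × (Fin m → V) //
        IsSB B m (fun i => if (i : ℕ) < k then W₀ else ⊤) p} = cnt q m k := by
  intro m
  induction m with
  | zero =>
    intro k V _ _ _ B hB hnd hV W₀ hW hk
    rw [cnt_zero, Nat.card_eq_one_iff_unique]
    refine ⟨⟨fun a b => Subtype.ext (Prod.ext (Subsingleton.elim _ _) (Subsingleton.elim _ _))⟩,
      ⟨⟨(Fin.elim0, Fin.elim0), ?_⟩⟩⟩
    exact ⟨fun i => i.elim0, fun i => i.elim0, fun i => i.elim0, fun i => i.elim0⟩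
  | succ m ih =>
    intro k V _ _ _ B hB hnd hV W₀ hW hk
    have hq2 : 2 ≤ q := by
      rw [← hq]
      exact Finite.one_lt_card
    have hN : ∀ e : V, e ≠ 0 → Nat.card {f : V // B e f = 1} = q ^ (2 * m + 1) := by
      intro e he
      have h1 := card_pair B hnd e he
      rw [hV, hq] at h1
      have h2 : q ^ (2 * (m + 1)) = q ^ (2 * m + 1) * q := by ring
      rw [h2] at h1
      exact Nat.eq_of_mul_eq_mul_right (by omega) h1
    set S : Fin (m + 1) → Submodule F V := fun i => if (i : ℕ) < k then W₀ else ⊤ with hS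
    let π : {p : (Fin (m + 1) → V) × (Fin (m + 1) → V) // IsSB B (m + 1) S p} →
        {p : V × V // B p.1 p.2 = 1 ∧ p.1 ∈ S 0} :=
      fun x => ⟨(x.1.1 0, x.1.2 0), ⟨by simpa using x.2.2.2.1 0 0, x.2.2.2.2 0⟩⟩
    have hfib : ∀ y, Nat.card {x // π x = y} = cnt q m (k - 1) := by
      rintro ⟨⟨e, f⟩, hef, he⟩
      have h1 : Nat.card {x // π x = ⟨(e, f), hef, he⟩} =
          Nat.card {x : {p : (Fin (m + 1) → V) × (Fin (m + 1) → V) // IsSB B (m + 1) S p} //
            x.1.1 0 = e ∧ x.1.2 0 = f} := by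
        apply Nat.card_congr
        apply Equiv.subtypeEquivRight
        intro x
        simp [π, Subtype.ext_iff]
      rw [h1, card_SB_fiber B hB S e f hef he]
      have hP : Nat.card (perp B e f) = q ^ (2 * m) := by
        have h3 := card_perp B hB e f hef
        rw [hV, hq] at h3
        have h4 : q ^ (2 * (m + 1)) = q ^ (2 * m) * q ^ 2 := by ring
        rw [h4] at h3
        exact Nat.eq_of_mul_eq_mul_right (by positivity) h3
      have hnd' := restrict_nd B hB hnd e f hef
      have hB' := restrict_alt B hB (perp B e f)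
      rcases Nat.eq_zero_or_pos k with hk0 | hk0
      · subst hk0
        have hS' : (fun i : Fin m => (S i.succ).comap (perp B e f).subtype) =
            fun i : Fin m => if (i : ℕ) < 0 then (⊥ : Submodule F (perp B e f)) else ⊤ := by
          funext i
          simp [S]
        rw [hS']
        exact ih 0 (perp B e f) (B.restrict (perp B e f)) hB' hnd' hP ⊥
          (by
            intro x hx y hy
            rw [Submodule.mem_bot] at hx
            rw [hx]
            simp)
          (by simp)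
      · obtain ⟨k', rfl⟩ : ∃ k', k = k' + 1 := ⟨k - 1, by omega⟩
        have heW : e ∈ W₀ := by simpa [S] using he
        have hS' : (fun i : Fin m => (S i.succ).comap (perp B e f).subtype) =
            fun i : Fin m => if (i : ℕ) < k' then W₀.comap (perp B e f).subtype else ⊤ := by
          funext i
          by_cases hi : (i : ℕ) < k'
          · simp [S, hi]
          · simp [S, hi]
        rw [hS']
        have hW' : Nat.card (W₀.comap (perp B e f).subtype) = q ^ k' := by
          have h5 := card_comap_perp B hB W₀ hW e f hef heW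
          rw [hk, hq, pow_succ] at h5
          exact Nat.eq_of_mul_eq_mul_right (by omega) h5
        exact ih k' (perp B e f) (B.restrict (perp B e f)) hB' hnd' hP
          (W₀.comap (perp B e f).subtype)
          (by
            intro x hx y hy
            simpa using hW _ hx _ hy)
          hW'
    rw [card_eq_of_fibers π _ hfib, card_HP B (S 0) _ hN]
    cases k with
    | zero =>
      have : Nat.card (S 0) = q ^ (2 * m + 2) := by
        have h6 : S 0 = ⊤ := by simp [S]
        rw [h6, Nat.card_congr (Submodule.topEquiv (R := F) (M := V)).toEquiv, hV]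
        ring
      rw [this]
      rfl
    | succ k =>
      have : Nat.card (S 0) = q ^ (k + 1) := by
        have h6 : S 0 = W₀ := by simp [S]
        rw [h6, hk]
      rw [this]
      rfl


theorem cnt_zero_right (q m : ℕ) :
    cnt q m 0 = q ^ (m ^ 2) * ∏ i ∈ Finset.range m, (q ^ (2 * (i + 1)) - 1) := by
  induction m with
  | zero => simp [cnt_zero]
  | succ m ih =>
    rw [cnt, ih, Finset.prod_range_succ]
    have h1 : 2 * m + 2 = 2 * (m + 1) := by ring
    have h2 : (m + 1) ^ 2 = 2 * m + 1 + m ^ 2 := by ring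
    rw [h1, h2, pow_add]
    ring

theorem prod_fin_succ (q k : ℕ) :
    ∏ i : Fin (k + 1), (q ^ (k + 1) - q ^ (i : ℕ)) =
      (q ^ (k + 1) - 1) * q ^ k * ∏ i : Fin k, (q ^ k - q ^ (i : ℕ)) := by
  rw [Fin.prod_univ_succ]
  have h : ∀ i : Fin k, q ^ (k + 1) - q ^ ((i.succ : Fin (k + 1)) : ℕ) =
      q * (q ^ k - q ^ (i : ℕ)) := by
    intro i
    rw [Fin.val_succ, Nat.mul_sub, pow_succ', pow_succ']
  simp only [h, Finset.prod_mul_distrib, Finset.prod_const, Finset.card_univ, Fintype.card_fin,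
    Fin.val_zero, pow_zero]
  ring

theorem cnt_closed (q : ℕ) : ∀ (k d : ℕ),
    cnt q (k + d) k = q ^ (k * (k + 1) / 2 + 2 * k * d) *
      (q ^ (d ^ 2) * ∏ i ∈ Finset.range d, (q ^ (2 * (i + 1)) - 1)) *
      ∏ i : Fin k, (q ^ k - q ^ (i : ℕ)) := by
  intro k
  induction k with
  | zero =>
    intro d
    rw [cnt_zero_right]
    simp
  | succ k ih =>
    intro d
    have h1 : k + 1 + d = (k + d) + 1 := by ring
    rw [h1, cnt, ih d, prod_fin_succ]
    have h2 : (k + 1) * (k + 1 + 1) / 2 = k * (k + 1) / 2 + (k + 1) := by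
      have : (k + 1) * (k + 1 + 1) = k * (k + 1) + 2 * (k + 1) := by ring
      rw [this, Nat.add_mul_div_left _ _ (by norm_num)]
    rw [h2]
    have h3 : k * (k + 1) / 2 + (k + 1) + 2 * (k + 1) * d =
        (2 * (k + d) + 1) + (k * (k + 1) / 2 + 2 * k * d) - k := by
      have : 2 * (k + 1) * d = 2 * k * d + 2 * d := by ring
      omega
    have h4 : q ^ (2 * (k + d) + 1) * q ^ (k * (k + 1) / 2 + 2 * k * d) =
        q ^ (k * (k + 1) / 2 + (k + 1) + 2 * (k + 1) * d) * q ^ k := by
      rw [← pow_add, ← pow_add]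
      congr 1
      have : 2 * (k + 1) * d = 2 * k * d + 2 * d := by ring
      omega
    calc (q ^ (k + 1) - 1) * q ^ (2 * (k + d) + 1) *
          (q ^ (k * (k + 1) / 2 + 2 * k * d) *
            (q ^ (d ^ 2) * ∏ i ∈ Finset.range d, (q ^ (2 * (i + 1)) - 1)) *
            ∏ i : Fin k, (q ^ k - q ^ (i : ℕ)))
        = (q ^ (2 * (k + d) + 1) * q ^ (k * (k + 1) / 2 + 2 * k * d)) *
            ((q ^ (d ^ 2) * ∏ i ∈ Finset.range d, (q ^ (2 * (i + 1)) - 1)) *
            ((q ^ (k + 1) - 1) * ∏ i : Fin k, (q ^ k - q ^ (i : ℕ)))) := by ring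
      _ = _ := by rw [h4]; ring


theorem cnt_pos (q : ℕ) (hq : 2 ≤ q) : ∀ m k, 0 < cnt q m k := by
  intro m
  induction m with
  | zero => intro k; rw [cnt_zero]; exact Nat.one_pos
  | succ m ih =>
    intro k
    have hp : ∀ a : ℕ, 0 < q ^ (a + 1) - 1 := fun a =>
      Nat.sub_pos_of_lt (Nat.one_lt_pow (by omega) (by omega))
    cases k with
    | zero =>
      rw [cnt]
      have := hp (2 * m + 1)
      have := ih 0
      positivity
    | succ k =>
      rw [cnt]
      have := hp k
      have := ih k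
      positivity

section Std
variable (F) (m : ℕ)

/-- The standard symplectic form as a bilinear form. -/
def Bstd : LinearMap.BilinForm F (Fin m ⊕ Fin m → F) :=
  LinearMap.mk₂ F (Cfsg.sympForm m F) (Symp.sympForm_add_left m) (Symp.sympForm_smul_left m)
    (Symp.sympForm_add_right m) (Symp.sympForm_smul_right m)

theorem Bstd_apply (u v : Fin m ⊕ Fin m → F) : Bstd F m u v = Cfsg.sympForm m F u v := rfl

theorem Bstd_alt (x : Fin m ⊕ Fin m → F) : Bstd F m x x = 0 := Symp.sympForm_self m x

theorem Bstd_nd (x : Fin m ⊕ Fin m → F) (h : ∀ y, Bstd F m x y = 0) : x = 0 :=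
  Symp.eq_zero_of_sympForm_eq_zero m x h

omit [Field F] in
theorem card_std [Finite F] : Nat.card (Fin m ⊕ Fin m → F) = Nat.card F ^ (2 * m) := by
  rw [Nat.card_fun]
  congr 1
  simp
  ring

/-- The matrix with prescribed columns. -/
def pairMat (p : (Fin m → (Fin m ⊕ Fin m → F)) × (Fin m → (Fin m ⊕ Fin m → F))) :
    Matrix (Fin m ⊕ Fin m) (Fin m ⊕ Fin m) F :=
  Matrix.of fun x y => Sum.elim (fun j => p.2 j x) (fun i => p.1 i x) y

theorem pairMat_col_inl (p : (Fin m → (Fin m ⊕ Fin m → F)) × (Fin m → (Fin m ⊕ Fin m → F)))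
    (j : Fin m) : (pairMat F m p).col (Sum.inl j) = p.2 j := rfl

theorem pairMat_col_inr (p : (Fin m → (Fin m ⊕ Fin m → F)) × (Fin m → (Fin m ⊕ Fin m → F)))
    (i : Fin m) : (pairMat F m p).col (Sum.inr i) = p.1 i := rfl

theorem col_isSB (A : Matrix (Fin m ⊕ Fin m) (Fin m ⊕ Fin m) F)
    (hA : A ∈ Matrix.symplecticGroup (Fin m) F) (S : Fin m → Submodule F (Fin m ⊕ Fin m → F))
    (hS : ∀ i, A.col (Sum.inr i) ∈ S i) :
    IsSB (Bstd F m) m S (fun i => A.col (Sum.inr i), fun j => A.col (Sum.inl j)) := by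
  have key : ∀ y z, Cfsg.sympForm m F (A.col y) (A.col z) =
      Cfsg.sympForm m F (Pi.single y 1) (Pi.single z 1) := by
    intro y z
    rw [← Matrix.mulVec_single_one, ← Matrix.mulVec_single_one]
    exact Symp.sympForm_mulVec_of_mem m hA _ _
  refine ⟨fun i j => ?_, fun i j => ?_, fun i j => ?_, hS⟩
  · rw [Bstd_apply, key, Symp.sympForm_single_inr]
    simp
  · rw [Bstd_apply, key, Symp.sympForm_single_inl]
    simp
  · rw [Bstd_apply, key, Symp.sympForm_single_inl]
    simp [Pi.single_apply, eq_comm]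

theorem pairMat_mem (S : Fin m → Submodule F (Fin m ⊕ Fin m → F))
    (p : (Fin m → (Fin m ⊕ Fin m → F)) × (Fin m → (Fin m ⊕ Fin m → F)))
    (hp : IsSB (Bstd F m) m S p) : pairMat F m p ∈ Matrix.symplecticGroup (Fin m) F := by
  obtain ⟨h1, h2, h3, h4⟩ := hp
  have key : (Bstd F m).compl₁₂ (Matrix.mulVecLin (pairMat F m p))
      (Matrix.mulVecLin (pairMat F m p)) = Bstd F m := by
    apply LinearMap.ext_basis (Pi.basisFun F _) (Pi.basisFun F _)
    intro y z
    simp only [LinearMap.compl₁₂_apply, Pi.basisFun_apply, Matrix.mulVecLin_apply,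
      Matrix.mulVec_single_one, Bstd_apply]
    rcases y with i | i <;> rcases z with j | j
    · rw [Symp.sympForm_single_inl, pairMat_col_inl, pairMat_col_inl]
      have := h2 i j
      rw [Bstd_apply] at this
      simpa using this
    · rw [Symp.sympForm_single_inr, pairMat_col_inl, pairMat_col_inr]
      have := h3 j i
      rw [Bstd_apply, Symp.sympForm_swap] at this
      have h5 : Cfsg.sympForm m F (p.2 i) (p.1 j) = -(if j = i then 1 else 0) := by
        rw [← this, neg_neg]
      simpa [Pi.single_apply] using h5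
    · rw [Symp.sympForm_single_inl, pairMat_col_inl, pairMat_col_inr]
      have := h3 i j
      rw [Bstd_apply] at this
      simpa [Pi.single_apply, eq_comm] using this
    · rw [Symp.sympForm_single_inr, pairMat_col_inr, pairMat_col_inr]
      have := h1 i j
      rw [Bstd_apply] at this
      simpa using this
  apply Symp.mem_of_sympForm_mulVec
  intro u v
  have := LinearMap.congr_fun₂ key u v
  simpa [Bstd_apply] using this

/-- Symplectic matrices with constrained columns correspond to constrained symplectic bases. -/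
def spEquiv (S : Fin m → Submodule F (Fin m ⊕ Fin m → F)) :
    {A : Matrix.symplecticGroup (Fin m) F // ∀ i, A.1.col (Sum.inr i) ∈ S i} ≃
      {p : (Fin m → (Fin m ⊕ Fin m → F)) × (Fin m → (Fin m ⊕ Fin m → F)) //
        IsSB (Bstd F m) m S p} where
  toFun A := ⟨_, col_isSB F m A.1.1 A.1.2 S A.2⟩
  invFun p := ⟨⟨pairMat F m p.1, pairMat_mem F m S p.1 p.2⟩, p.2.2.2.2⟩
  left_inv A := by
    apply Subtype.ext; apply Subtype.ext
    ext x y
    rcases y with j | j <;> rfl
  right_inv p := rfl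

theorem card_sp_constr [Finite F] (q : ℕ) (hq : Nat.card F = q) (k : ℕ)
    (W : Submodule F (Fin m ⊕ Fin m → F)) (hW : ∀ u ∈ W, ∀ v ∈ W, Cfsg.sympForm m F u v = 0)
    (hk : Nat.card W = q ^ k) :
    Nat.card {A : Matrix.symplecticGroup (Fin m) F //
      ∀ i : Fin m, (i : ℕ) < k → A.1.col (Sum.inr i) ∈ W} = cnt q m k := by
  rw [← card_SB q hq m k (Fin m ⊕ Fin m → F) (Bstd F m) (Bstd_alt F m) (Bstd_nd F m)
    (by rw [card_std, hq]) W hW hk, ← Nat.card_congr (spEquiv F m _)]
  apply Nat.card_congr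
  apply Equiv.subtypeEquivRight
  intro A
  refine forall_congr' fun i => ?_
  by_cases hi : (i : ℕ) < k
  · simp [hi]
  · simp [hi]

theorem card_sp [Finite F] (q : ℕ) (hq : Nat.card F = q) :
    Nat.card (Matrix.symplecticGroup (Fin m) F) =
      q ^ (m ^ 2) * ∏ i ∈ Finset.range m, (q ^ (2 * (i + 1)) - 1) := by
  rw [← cnt_zero_right, ← card_sp_constr F m q hq 0 ⊥ (by
    intro u hu v hv
    rw [Submodule.mem_bot] at hu
    rw [hu, Symp.sympForm_zero_left]) (by simp)]
  exact (Nat.card_congr (Equiv.subtypeUnivEquiv (fun A i hi => absurd hi (Nat.not_lt_zero _)))).symm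

end Std

end Cfsg.Agent.Lib.Helper5.SympCount
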