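import Mathlib
import Cfsg.Agent.Lib.Helper5.ZJFam
import Cfsg.Agent.S0653
import Cfsg.Agent.S0631

set_option autoImplicit false

namespace Cfsg.Agent.Lib.Helper5.ZJMap

open Cfsg
open scoped Pointwise
open scoped commutatorElement

theorem card_map_of_injOn {G H : Type*} [Group G] [Group H] (f : G →* H) (A : Subgroup G)
    (hf : ∀ x ∈ A, f x = 1 → x = 1) : Nat.card (A.map f) = Nat.card A := by
  have hinj : Function.Injective (f.comp A.subtype) := by
    rw [injective_iff_map_eq_one]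
    intro x hx
    exact Subtype.ext (hf x.1 x.2 hx)
  have hr : (f.comp A.subtype).range = A.map f := by
    rw [MonoidHom.range_eq_map, ← Subgroup.map_map, ← MonoidHom.range_eq_map,
      Subgroup.range_subtype]
  rw [← hr]
  exact (Nat.card_congr (MonoidHom.ofInjective hinj).toEquiv).symm

theorem inj_of_ker {G H : Type*} [Group G] [Group H] (f : G →* H) (P : Subgroup G)
    (hf : ∀ x ∈ P, f x = 1 → x = 1) : ∀ x ∈ P, ∀ y ∈ P, f x = f y → x = y := by
  intro x hx y hy hxy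
  have h1 : f (x * y⁻¹) = 1 := by rw [map_mul, map_inv, hxy, mul_inv_cancel]
  have h2 := hf _ (P.mul_mem hx (P.inv_mem hy)) h1
  exact mul_inv_eq_one.mp h2

/-- the family of abelian subgroups of largest order is transported by a homomorphism which is
injective on `P` -/
theorem fam_true_map {G H : Type*} [Group G] [Group H] [Finite G] [Finite H] (f : G →* H)
    (P : Subgroup G) (hf : ∀ x ∈ P, f x = 1 → x = 1) :
    ZJFam.fam (fun _ => True) (P.map f) =
      (fun A : Subgroup G => A.map f) '' ZJFam.fam (fun _ => True) P := by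
  have hinj := inj_of_ker f P hf
  have hpull : ∀ V : Subgroup H, V ≤ P.map f → IsMulCommutative V →
      ∃ V' : Subgroup G, V' ≤ P ∧ IsMulCommutative V' ∧ V'.map f = V := by
    intro V hV hVc
    refine ⟨V.comap f ⊓ P, inf_le_right, ?_, ?_⟩
    · apply ZJFam.isComm_of
      intro x hx y hy
      obtain ⟨hx1, hx2⟩ := Subgroup.mem_inf.mp hx
      obtain ⟨hy1, hy2⟩ := Subgroup.mem_inf.mp hy
      apply hinj _ (P.mul_mem hx2 hy2) _ (P.mul_mem hy2 hx2)
      rw [map_mul, map_mul]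
      exact ZJFam.comm_of hVc _ hx1 _ hy1
    · apply le_antisymm
      · rintro _ ⟨x, hx, rfl⟩
        exact (Subgroup.mem_inf.mp hx).1
      · intro v hv
        obtain ⟨x, hx, rfl⟩ := hV hv
        exact ⟨x, Subgroup.mem_inf.mpr ⟨hv, hx⟩, rfl⟩
  have hcard : ∀ A : Subgroup G, A ≤ P → Nat.card (A.map f) = Nat.card A := fun A hA =>
    card_map_of_injOn f A (fun x hx => hf x (hA hx))
  ext A₂
  constructor
  · rintro ⟨h1, h2, -, h3⟩
    obtain ⟨A', hA'P, hA'c, rfl⟩ := hpull A₂ h1 h2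
    refine ⟨A', ⟨hA'P, hA'c, trivial, ?_⟩, rfl⟩
    intro V hV hVc _
    have h4 := h3 (V.map f) (Subgroup.map_mono hV) inferInstance trivial
    rw [hcard V hV, hcard A' hA'P] at h4
    exact h4
  · rintro ⟨A, ⟨h1, h2, -, h3⟩, rfl⟩
    refine ⟨Subgroup.map_mono h1, inferInstance, trivial, ?_⟩
    intro V hV hVc _
    obtain ⟨V', hV'P, hV'c, rfl⟩ := hpull V hV hVc
    rw [hcard V' hV'P, hcard A h1]
    exact h3 V' hV'P hV'c trivial

/-- `Z(J(P))` is transported by a homomorphism which is injective on `P` -/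
theorem center_map {G H : Type*} [Group G] [Group H] [Finite G] [Finite H] (f : G →* H)
    (P : Subgroup G) (hf : ∀ x ∈ P, f x = 1 → x = 1) :
    centerThompsonAOf (P.map f) = (centerThompsonAOf P).map f := by
  rw [S0653.center_eq, S0653.center_eq, fam_true_map f P hf]
  have hinj := inj_of_ker f P hf
  obtain ⟨A₀, hA₀⟩ := ZJFam.fam_nonempty (fun _ : Subgroup G => True) trivial P
  apply le_antisymm
  · intro y hy
    rw [Subgroup.mem_sInf] at hy
    obtain ⟨x, hx, rfl⟩ := hy _ ⟨A₀, hA₀, rfl⟩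
    refine ⟨x, ?_, rfl⟩
    show x ∈ sInf (ZJFam.fam (fun _ => True) P)
    rw [Subgroup.mem_sInf]
    intro A hA
    obtain ⟨x', hx', hxx⟩ := hy _ ⟨A, hA, rfl⟩
    have h1 := hinj x' (hA.1 hx') x (hA₀.1 hx) hxx
    rw [← h1]; exact hx'
  · rintro _ ⟨x, hx, rfl⟩
    have hx' : x ∈ sInf (ZJFam.fam (fun _ => True) P) := hx
    rw [Subgroup.mem_sInf] at hx' ⊢
    rintro _ ⟨A, hA, rfl⟩
    exact Subgroup.mem_map_of_mem f (hx' A hA)

theorem center_le {G : Type*} [Group G] (P : Subgroup G) : centerThompsonAOf P ≤ P := by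
  unfold centerThompsonAOf thompsonSubgroupAOf
  exact inf_le_left.trans (Subgroup.map_subtype_le _)

/-- an element of order prime to `p` acting quadratically on a normal `p`-subgroup centralizes it -/
theorem cent_of_coprime_quad {G : Type*} [Group G] [Finite G] {p : ℕ} [Fact p.Prime]
    (V : Subgroup G) [hVn : V.Normal] (hV : IsPGroup p V) (b : G) (hb : (orderOf b).Coprime p)
    (hq : ⁅⁅V, Subgroup.zpowers b⁆, Subgroup.zpowers b⁆ = ⊥) :
    b ∈ Subgroup.centralizer (V : Set G) := by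
  rw [Subgroup.mem_centralizer_iff]
  intro v hv
  have hw : ⁅v, b⁆ ∈ ⁅V, Subgroup.zpowers b⁆ :=
    Subgroup.commutator_mem_commutator hv (Subgroup.mem_zpowers b)
  have hwb : ⁅⁅v, b⁆, b⁆ = 1 := by
    have h := Subgroup.commutator_mem_commutator hw (Subgroup.mem_zpowers b)
    rw [hq, Subgroup.mem_bot] at h
    exact h
  have hcomm : ⁅v, b⁆ * b = b * ⁅v, b⁆ := commutatorElement_eq_one_iff_mul_comm.mp hwb
  have hwV : ⁅v, b⁆ ∈ V := by
    rw [commutatorElement_def]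
    have h : v * b * v⁻¹ * b⁻¹ = v * (b * v⁻¹ * b⁻¹) := by group
    rw [h]
    exact V.mul_mem hv (hVn.conj_mem _ (V.inv_mem hv) b)
  have h1 : v * b * v⁻¹ = ⁅v, b⁆ * b := by rw [commutatorElement_def]; group
  have h2 : ∀ n : ℕ, v * b ^ n * v⁻¹ = ⁅v, b⁆ ^ n * b ^ n := by
    intro n
    have h : v * b ^ n * v⁻¹ = (v * b * v⁻¹) ^ n := by rw [conj_pow]
    rw [h, h1, (show Commute ⁅v, b⁆ b from hcomm).mul_pow]
  have h3 : ⁅v, b⁆ ^ orderOf b = 1 := by
    have h := h2 (orderOf b)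
    rw [pow_orderOf_eq_one, mul_one, mul_inv_cancel, mul_one] at h
    exact h.symm
  obtain ⟨k, hk⟩ := hV ⟨⁅v, b⁆, hwV⟩
  have hk' : ⁅v, b⁆ ^ p ^ k = 1 := by simpa using congrArg Subtype.val hk
  have h4 := pow_gcd_eq_one.mpr ⟨h3, hk'⟩
  rw [Nat.Coprime.pow_right k hb, pow_one] at h4
  exact commutatorElement_eq_one_iff_mul_comm.mp h4

/-- a `p`-subgroup of a quotient lifts to a `p`-subgroup -/
theorem exists_pgroup_lift {G : Type*} [Group G] [Finite G] {p : ℕ} [Fact p.Prime]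
    (K : Subgroup G) [K.Normal] (Y : Subgroup (G ⧸ K)) (hY : IsPGroup p Y) :
    ∃ T : Subgroup G, IsPGroup p T ∧ T.map (QuotientGroup.mk' K) = Y := by
  obtain ⟨S⟩ : Nonempty (Sylow p G) := Sylow.nonempty
  obtain ⟨S₁, hS₁⟩ := hY.exists_le_sylow
  obtain ⟨g', hg'⟩ := MulAction.exists_smul_eq (G ⧸ K)
    (S.mapSurjective (QuotientGroup.mk'_surjective K)) S₁
  obtain ⟨g, rfl⟩ := QuotientGroup.mk'_surjective K g'
  refine ⟨(S : Subgroup G).map (MulAut.conj g).toMonoidHom ⊓ Y.comap (QuotientGroup.mk' K),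
    (S.isPGroup'.map _).to_le inf_le_left, ?_⟩
  apply le_antisymm
  · rintro _ ⟨x, hx, rfl⟩
    exact (Subgroup.mem_inf.mp hx).2
  · intro y hy
    have h1 : y ∈ (S₁ : Subgroup (G ⧸ K)) := hS₁ hy
    rw [← hg'] at h1
    have h2 : y ∈ (MulAut.conj (QuotientGroup.mk' K g) •
        ((S.mapSurjective (QuotientGroup.mk'_surjective K) : Sylow p (G ⧸ K)) :
          Subgroup (G ⧸ K)) : Subgroup (G ⧸ K)) := h1
    rw [Subgroup.mem_pointwise_smul_iff_inv_smul_mem] at h2
    have h3 : (MulAut.conj (QuotientGroup.mk' K g))⁻¹ • y =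
        (QuotientGroup.mk' K g)⁻¹ * y * QuotientGroup.mk' K g := by
      rw [← map_inv, MulAut.smul_def, MulAut.conj_apply, inv_inv]
    rw [h3, Sylow.coe_mapSurjective] at h2
    obtain ⟨s, hs, hsy⟩ := h2
    have h4 : QuotientGroup.mk' K (g * s * g⁻¹) = y := by
      rw [map_mul, map_mul, map_inv, hsy]; group
    refine ⟨g * s * g⁻¹, Subgroup.mem_inf.mpr ⟨⟨s, hs, rfl⟩, ?_⟩, h4⟩
    rw [Subgroup.mem_comap, h4]
    exact hy

theorem isPGroup_zpowers {G : Type*} [Group G] {p k : ℕ} {a : G} (h : a ^ p ^ k = 1) :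
    IsPGroup p (Subgroup.zpowers a) := by
  rintro ⟨x, hx⟩
  obtain ⟨j, rfl⟩ := Subgroup.mem_zpowers_iff.mp hx
  refine ⟨k, Subtype.ext ?_⟩
  show (a ^ j) ^ p ^ k = 1
  rw [← zpow_natCast, ← zpow_mul, mul_comm, zpow_mul, zpow_natCast, h, one_zpow]

/-- `p`-stability of `G` (in the form with an acting `p`-subgroup) gives `p`-stability of the
action of `G / O_{p'}(G)` on each of its normal `p`-subgroups. -/
theorem stableOn_quot {G : Type*} [Group G] [Finite G] {p : ℕ} [Fact p.Prime]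
    (hs : IsPStable p G) (Vb : Subgroup (G ⧸ pPrimeCore p G)) [hVn : Vb.Normal]
    (hVb : IsPGroup p Vb) : IsPStableOn p Vb := by
  classical
  intro a hq
  have hO : (Nat.card (pPrimeCore p G)).Coprime p :=
    Cfsg.Agent.Lib.Helper9.pPrimeCore_coprime p G
  have hpp : p.Prime := Fact.out
  obtain ⟨k, m, hm, hn⟩ :=
    Nat.exists_eq_pow_mul_and_not_dvd (orderOf_pos a).ne' p hpp.ne_one
  have hcop : Nat.Coprime m p := ((Nat.Prime.coprime_iff_not_dvd hpp).mpr hm).symm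
  have hb_ord : (orderOf (a ^ p ^ k)).Coprime p := by
    have h1 : orderOf (a ^ p ^ k) ∣ m :=
      orderOf_dvd_of_pow_eq_one (by rw [← pow_mul, ← hn, pow_orderOf_eq_one])
    exact Nat.Coprime.coprime_dvd_left h1 hcop
  have hzle : ∀ x ∈ Subgroup.zpowers a, Subgroup.zpowers x ≤ Subgroup.zpowers a := fun x hx =>
    Subgroup.zpowers_le.mpr hx
  have hquad : ∀ x ∈ Subgroup.zpowers a,
      ⁅⁅Vb, Subgroup.zpowers x⁆, Subgroup.zpowers x⁆ = ⊥ := by
    intro x hx
    rw [eq_bot_iff, ← hq]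
    exact Subgroup.commutator_mono (Subgroup.commutator_mono le_rfl (hzle x hx)) (hzle x hx)
  have hbC := cent_of_coprime_quad Vb hVb (a ^ p ^ k) hb_ord
    (hquad _ (Subgroup.pow_mem _ (Subgroup.mem_zpowers a) _))
  have hgcd : Int.gcd (m : ℤ) ((p ^ k : ℕ) : ℤ) = 1 := by
    rw [Int.gcd_natCast_natCast]; exact Nat.Coprime.pow_right k hcop
  have hbez := Int.gcd_eq_gcd_ab (m : ℤ) ((p ^ k : ℕ) : ℤ)
  rw [hgcd, Nat.cast_one] at hbez
  obtain ⟨α, hα⟩ : ∃ α : ℤ, α = Int.gcdA (m : ℤ) ((p ^ k : ℕ) : ℤ) := ⟨_, rfl⟩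
  obtain ⟨β, hβ⟩ : ∃ β : ℤ, β = Int.gcdB (m : ℤ) ((p ^ k : ℕ) : ℤ) := ⟨_, rfl⟩
  rw [← hα, ← hβ] at hbez
  have ha_dec : (a ^ m) ^ α * (a ^ p ^ k) ^ β = a := by
    rw [← zpow_natCast a m, ← zpow_natCast a (p ^ k), ← zpow_mul, ← zpow_mul, ← zpow_add,
      ← hbez, zpow_one]
  have ha'p : ((a ^ m) ^ α) ^ p ^ k = 1 := by
    rw [← zpow_natCast ((a ^ m) ^ α) (p ^ k), ← zpow_mul, mul_comm α, zpow_mul, zpow_natCast,
      ← pow_mul, mul_comm m, ← hn, pow_orderOf_eq_one, one_zpow]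
  have ha'z : (a ^ m) ^ α ∈ Subgroup.zpowers a :=
    Subgroup.zpow_mem _ (Subgroup.pow_mem _ (Subgroup.mem_zpowers a) _) _
  have hmk : (QuotientGroup.mk a : (G ⧸ pPrimeCore p G) ⧸
      Subgroup.centralizer (Vb : Set (G ⧸ pPrimeCore p G))) =
        QuotientGroup.mk ((a ^ m) ^ α) := by
    rw [eq_comm, QuotientGroup.eq]
    have h1 : ((a ^ m) ^ α)⁻¹ * a = (a ^ p ^ k) ^ β := by
      rw [eq_comm, eq_inv_mul_iff_mul_eq]
      exact ha_dec
    rw [h1]
    exact Subgroup.zpow_mem _ hbC _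
  rw [hmk]
  obtain ⟨a', ha'⟩ : ∃ a', a' = (a ^ m) ^ α := ⟨_, rfl⟩
  rw [← ha'] at ha'p ha'z ⊢
  have hYp : IsPGroup p (Vb ⊔ Subgroup.zpowers a' : Subgroup (G ⧸ pPrimeCore p G)) :=
    IsPGroup.to_sup_of_normal_left hVb (isPGroup_zpowers ha'p)
  obtain ⟨T, hTp, hTmap⟩ := exists_pgroup_lift (pPrimeCore p G) _ hYp
  obtain ⟨t, htT, hta⟩ : ∃ t ∈ T, QuotientGroup.mk' (pPrimeCore p G) t = a' := by
    have h1 : a' ∈ T.map (QuotientGroup.mk' (pPrimeCore p G)) := by
      rw [hTmap]; exact Subgroup.mem_sup_right (Subgroup.mem_zpowers a')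
    exact h1
  obtain ⟨V, hV⟩ : ∃ V : Subgroup G,
      V = T ⊓ Vb.comap (QuotientGroup.mk' (pPrimeCore p G)) := ⟨_, rfl⟩
  have hVT : V ≤ T := by rw [hV]; exact inf_le_left
  have hVp : IsPGroup p V := hTp.to_le hVT
  have hVmap : V.map (QuotientGroup.mk' (pPrimeCore p G)) = Vb := by
    apply le_antisymm
    · rintro _ ⟨x, hx, rfl⟩
      rw [hV] at hx
      exact (Subgroup.mem_inf.mp hx).2
    · intro v hv
      have h1 : v ∈ T.map (QuotientGroup.mk' (pPrimeCore p G)) := by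
        rw [hTmap]; exact Subgroup.mem_sup_left hv
      obtain ⟨x, hx, rfl⟩ := h1
      refine ⟨x, ?_, rfl⟩
      rw [hV]
      exact Subgroup.mem_inf.mpr ⟨hx, hv⟩
  have hAT : Subgroup.zpowers t ≤ T := Subgroup.zpowers_le.mpr htT
  have hAp : IsPGroup p (Subgroup.zpowers t) := hTp.to_le hAT
  have hAV : ∀ y ∈ Subgroup.zpowers t, ∀ x ∈ V, y * x * y⁻¹ ∈ V := by
    intro y hy x hx
    rw [hV] at hx ⊢
    obtain ⟨hx1, hx2⟩ := Subgroup.mem_inf.mp hx
    refine Subgroup.mem_inf.mpr ⟨T.mul_mem (T.mul_mem (hAT hy) hx1) (T.inv_mem (hAT hy)), ?_⟩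
    rw [Subgroup.mem_comap, map_mul, map_mul, map_inv]
    exact hVn.conj_mem _ hx2 _
  have hVle : V ≤ pPrimePCore p G := by
    intro x hx
    unfold pPrimePCore
    rw [Subgroup.mem_comap]
    have h1 : QuotientGroup.mk' (pPrimeCore p G) x ∈ Vb := by
      rw [← hVmap]; exact Subgroup.mem_map_of_mem _ hx
    exact Cfsg.Agent.Lib.Helper9.le_pCore hVn hVb h1
  have hsup : pPrimeCore p G ⊔ V = Vb.comap (QuotientGroup.mk' (pPrimeCore p G)) := by
    apply le_antisymm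
    · apply sup_le
      · intro x hx
        rw [Subgroup.mem_comap]
        have h1 : QuotientGroup.mk' (pPrimeCore p G) x = 1 := (QuotientGroup.eq_one_iff x).mpr hx
        rw [h1]; exact Vb.one_mem
      · rw [hV]; exact inf_le_right
    · intro x hx
      rw [Subgroup.mem_comap, ← hVmap] at hx
      obtain ⟨v, hv, hvx⟩ := hx
      have h1 : v⁻¹ * x ∈ pPrimeCore p G := QuotientGroup.eq.mp hvx
      have h2 : x = v * (v⁻¹ * x) := by group
      rw [h2]
      exact Subgroup.mul_mem _ (Subgroup.mem_sup_right hv) (Subgroup.mem_sup_left h1)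
  have hKV : (pPrimeCore p G ⊔ V).Normal := by
    rw [hsup]; exact hVn.comap _
  have hquadV : ⁅⁅V, Subgroup.zpowers t⁆, Subgroup.zpowers t⁆ = ⊥ := by
    have h1 : ⁅V, Subgroup.zpowers t⁆ ≤ V := by
      rw [Subgroup.commutator_le]
      intro v hv y hy
      rw [commutatorElement_def]
      have h : v * y * v⁻¹ * y⁻¹ = v * (y * v⁻¹ * y⁻¹) := by group
      rw [h]
      exact V.mul_mem hv (hAV y hy _ (V.inv_mem hv))
    have h2 : ⁅⁅V, Subgroup.zpowers t⁆, Subgroup.zpowers t⁆ ≤ V :=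
      (Subgroup.commutator_mono h1 le_rfl).trans h1
    have h3 : (⁅⁅V, Subgroup.zpowers t⁆, Subgroup.zpowers t⁆).map
        (QuotientGroup.mk' (pPrimeCore p G)) = ⊥ := by
      rw [Subgroup.map_commutator, Subgroup.map_commutator, hVmap, MonoidHom.map_zpowers, hta]
      exact hquad a' ha'z
    rw [eq_bot_iff]
    intro x hx
    have h4 : QuotientGroup.mk' (pPrimeCore p G) x = 1 := by
      have h5 := Subgroup.mem_map_of_mem (QuotientGroup.mk' (pPrimeCore p G)) hx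
      rw [h3, Subgroup.mem_bot] at h5
      exact h5
    rw [Subgroup.mem_bot]
    exact Cfsg.Agent.Lib.Helper4.PPrimeQuot.eq_one_of_mem hO hVp (h2 hx)
      ((QuotientGroup.eq_one_iff x).mp h4)
  have hstab := hs.2.2 (Subgroup.zpowers t) V hAp hVp hAV hVle hKV hquadV
  have htN : t ∈ Subgroup.normalizer (V : Set G) :=
    Cfsg.Agent.S0650.mem_normalizer_fin (fun x hx => hAV t (Subgroup.mem_zpowers t) x hx)
  let ψ : ↥(Subgroup.normalizer (V : Set G)) →* (G ⧸ pPrimeCore p G) ⧸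
      Subgroup.centralizer (Vb : Set (G ⧸ pPrimeCore p G)) :=
    (QuotientGroup.mk' (Subgroup.centralizer (Vb : Set (G ⧸ pPrimeCore p G)))).comp
      ((QuotientGroup.mk' (pPrimeCore p G)).comp (Subgroup.normalizer (V : Set G)).subtype)
  have hψs : Function.Surjective ψ := by
    intro y
    obtain ⟨y', rfl⟩ := QuotientGroup.mk'_surjective _ y
    obtain ⟨g, rfl⟩ := QuotientGroup.mk'_surjective _ y'
    have hg : QuotientGroup.mk' (pPrimeCore p G) g ∈ Subgroup.normalizer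
        ((V.map (QuotientGroup.mk' (pPrimeCore p G)) : Subgroup (G ⧸ pPrimeCore p G)) :
          Set (G ⧸ pPrimeCore p G)) := by
      rw [hVmap, Subgroup.normalizer_eq_top]; exact Subgroup.mem_top _
    obtain ⟨u, hu, hn⟩ := Cfsg.Agent.Lib.Helper4.PPrimeQuot.norm_lift hO hVp g hg
    refine ⟨⟨u * g, hn⟩, ?_⟩
    show QuotientGroup.mk' _ (QuotientGroup.mk' (pPrimeCore p G) (u * g)) = _
    have hu1 : QuotientGroup.mk' (pPrimeCore p G) u = 1 := (QuotientGroup.eq_one_iff u).mpr hu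
    rw [map_mul, hu1, one_mul]
  have hker : (Subgroup.centralizer (V : Set G)).subgroupOf (Subgroup.normalizer (V : Set G)) ≤
      ψ.ker := by
    intro c hc
    rw [Subgroup.mem_subgroupOf] at hc
    rw [MonoidHom.mem_ker]
    have h1 := Cfsg.Agent.Lib.Helper4.PPrimeQuot.cent_map (QuotientGroup.mk' (pPrimeCore p G)) V hc
    rw [hVmap] at h1
    exact (QuotientGroup.eq_one_iff _).mpr h1
  have hφs : Function.Surjective (QuotientGroup.lift _ ψ hker) := by
    intro y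
    obtain ⟨x, rfl⟩ := hψs y
    exact ⟨QuotientGroup.mk x, rfl⟩
  have hφle : (pCore p (↥(Subgroup.normalizer (V : Set G)) ⧸
      (Subgroup.centralizer (V : Set G)).subgroupOf (Subgroup.normalizer (V : Set G)))).map
        (QuotientGroup.lift _ ψ hker) ≤ pCore p ((G ⧸ pPrimeCore p G) ⧸
          Subgroup.centralizer (Vb : Set (G ⧸ pPrimeCore p G))) :=
    Cfsg.Agent.Lib.Helper9.le_pCore ((Cfsg.pCore_normal p _).map _ hφs)
      ((Cfsg.Agent.Lib.Helper9.pCore_isPGroup p _).map _)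
  have h5 : (QuotientGroup.mk' ((Subgroup.centralizer (V : Set G)).subgroupOf
      (Subgroup.normalizer (V : Set G))) (⟨t, htN⟩ : ↥(Subgroup.normalizer (V : Set G)))) ∈
      pCore p _ :=
    hstab ⟨⟨t, htN⟩, Subgroup.mem_subgroupOf.mpr (Subgroup.mem_zpowers t), rfl⟩
  have h6 := hφle (Subgroup.mem_map_of_mem _ h5)
  have h7 : (QuotientGroup.lift _ ψ hker) (QuotientGroup.mk' ((Subgroup.centralizer (V : Set G)).subgroupOf
      (Subgroup.normalizer (V : Set G))) (⟨t, htN⟩ : ↥(Subgroup.normalizer (V : Set G)))) =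
      QuotientGroup.mk a' := by
    show QuotientGroup.mk' _ (QuotientGroup.mk' (pPrimeCore p G) t) = _
    rw [hta]; rfl
  rw [h7] at h6
  exact h6

end Cfsg.Agent.Lib.Helper5.ZJMap
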