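import Mathlib
import Cfsg.Agent.S5595

set_option autoImplicit false

namespace Cfsg.Agent.Lib.Helper5.LargeEx

open Cfsg.Agent.S5595

variable {G : Type*} [Group G]

/-- elementwise facts of an extraspecial 2-subgroup `A` with centre `{1, z}` -/
def Good (A : Subgroup G) (z : G) : Prop :=
  z ≠ 1 ∧ z * z = 1 ∧ z ∈ A ∧ (∀ a ∈ A, a * z = z * a) ∧
  (∀ a ∈ A, ∀ b ∈ A, a * b * a⁻¹ * b⁻¹ = 1 ∨ a * b * a⁻¹ * b⁻¹ = z) ∧
  (∀ a ∈ A, (∀ b ∈ A, a * b = b * a) → a = 1 ∨ a = z) ∧
  (∀ a ∈ A, a * a = 1 ∨ a * a = z)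

theorem good_z [Finite G] (z : G) (hz : orderOf z = 2) (hE : Cfsg.IsExtraspecial 2 ↥(O2C z))
    (hC : Subgroup.centralizer ((O2C z : Subgroup G) : Set G) ≤ O2C z) : Good (O2C z) z := by
  classical
  have hz2 : z * z = 1 := by rw [← pow_two, ← hz]; exact pow_orderOf_eq_one z
  have hz1 : z ≠ 1 := by
    rintro rfl
    rw [orderOf_one] at hz; omega
  have hAz : ∀ a ∈ O2C z, a * z = z * a := fun a ha => O2C_comm z a ha
  have hzA : z ∈ O2C z := hC (Subgroup.mem_centralizer_iff.mpr hAz)
  have hcen : ∀ c : ↥(O2C z), c ∈ Subgroup.center ↥(O2C z) → (c : G) = 1 ∨ (c : G) = z := by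
    intro c hc
    have h2 := hE.2
    obtain ⟨y, hy, huniq⟩ := (Nat.card_eq_two_iff' (1 : Subgroup.center ↥(O2C z))).mp h2
    have hz' : (⟨z, hzA⟩ : ↥(O2C z)) ∈ Subgroup.center ↥(O2C z) := by
      rw [Subgroup.mem_center_iff]
      intro g'
      exact Subtype.ext (hAz g' g'.2)
    have hzy : (⟨⟨z, hzA⟩, hz'⟩ : Subgroup.center ↥(O2C z)) = y := by
      apply huniq
      intro h
      apply hz1
      have := congrArg (fun t : Subgroup.center ↥(O2C z) => ((t : ↥(O2C z)) : G)) h
      simpa using this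
    by_cases hc1 : (⟨c, hc⟩ : Subgroup.center ↥(O2C z)) = 1
    · left
      have := congrArg (fun t : Subgroup.center ↥(O2C z) => ((t : ↥(O2C z)) : G)) hc1
      simpa using this
    · right
      have h3 := huniq ⟨c, hc⟩ hc1
      rw [← hzy] at h3
      have := congrArg (fun t : Subgroup.center ↥(O2C z) => ((t : ↥(O2C z)) : G)) h3
      simpa using this
  refine ⟨hz1, hz2, hzA, hAz, ?_, ?_, ?_⟩
  · intro a ha b hb
    have := hcen _ (Cfsg.Agent.Lib.Helper20.ESpecial.comm_mem_center hE.1.2.2 ⟨a, ha⟩ ⟨b, hb⟩)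
    simpa using this
  · intro a ha hab
    have : (⟨a, ha⟩ : ↥(O2C z)) ∈ Subgroup.center ↥(O2C z) := by
      rw [Subgroup.mem_center_iff]
      intro g'
      exact Subtype.ext (hab g' g'.2).symm
    simpa using hcen _ this
  · intro a ha
    have h1 := Cfsg.Agent.Lib.Helper20.ESpecial.pow_mem_frattini hE.1.1 (⟨a, ha⟩ : ↥(O2C z))
    rw [hE.1.2.1] at h1
    have := hcen _ h1
    simpa [pow_two] using this

theorem good_of_iff (A B : Subgroup G) (z g : G) (hA : Good A z)
    (hBiff : ∀ b, b ∈ B ↔ g⁻¹ * b * g ∈ A) : Good B (g * z * g⁻¹) := by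
  obtain ⟨hz1, hz2, hzA, hAz, hA2, hA3, hAsq⟩ := hA
  have e0 : g⁻¹ * (g * z * g⁻¹) * g = z := by group
  have hconj : ∀ t s : G, g⁻¹ * t * g = s → t = g * s * g⁻¹ := by
    intro t s h; rw [← h]; group
  refine ⟨fun h => hz1 (conj_eq_one_iff.mp h), ?_, ?_, ?_, ?_, ?_, ?_⟩
  · calc g * z * g⁻¹ * (g * z * g⁻¹) = g * (z * z) * g⁻¹ := by group
      _ = 1 := by rw [hz2, mul_one, mul_inv_cancel]
  · rw [hBiff, e0]; exact hzA
  · intro b hb
    have h1 := hAz _ ((hBiff b).mp hb)
    calc b * (g * z * g⁻¹) = g * ((g⁻¹ * b * g) * z) * g⁻¹ := by group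
      _ = g * (z * (g⁻¹ * b * g)) * g⁻¹ := by rw [h1]
      _ = (g * z * g⁻¹) * b := by group
  · intro a ha b hb
    have e : (g⁻¹ * a * g) * (g⁻¹ * b * g) * (g⁻¹ * a * g)⁻¹ * (g⁻¹ * b * g)⁻¹
        = g⁻¹ * (a * b * a⁻¹ * b⁻¹) * g := by group
    rcases hA2 _ ((hBiff a).mp ha) _ ((hBiff b).mp hb) with h | h
    · left; rw [e] at h; rw [hconj _ _ h]; group
    · right; rw [e] at h; rw [hconj _ _ h]
  · intro a ha hab
    have hc : ∀ b' ∈ A, (g⁻¹ * a * g) * b' = b' * (g⁻¹ * a * g) := by
      intro b' hb'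
      have hb : g * b' * g⁻¹ ∈ B := by
        rw [hBiff]
        have : g⁻¹ * (g * b' * g⁻¹) * g = b' := by group
        rw [this]; exact hb'
      have h2 := hab _ hb
      calc (g⁻¹ * a * g) * b' = g⁻¹ * (a * (g * b' * g⁻¹)) * g := by group
        _ = g⁻¹ * ((g * b' * g⁻¹) * a) * g := by rw [h2]
        _ = b' * (g⁻¹ * a * g) := by group
    rcases hA3 _ ((hBiff a).mp ha) hc with h | h
    · left; rw [hconj _ _ h]; group
    · right; rw [hconj _ _ h]
  · intro b hb
    have e : (g⁻¹ * b * g) * (g⁻¹ * b * g) = g⁻¹ * (b * b) * g := by group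
    rcases hAsq _ ((hBiff b).mp hb) with h | h
    · left; rw [e] at h; rw [hconj _ _ h]; group
    · right; rw [e] at h; rw [hconj _ _ h]

theorem O2C_iff [Finite G] (z g b : G) : b ∈ O2C (g * z * g⁻¹) ↔ g⁻¹ * b * g ∈ O2C z := by
  constructor
  · intro hb
    have := O2C_conj g⁻¹ (g * z * g⁻¹) b hb
    have e : g⁻¹ * (g * z * g⁻¹) * g⁻¹⁻¹ = z := by group
    rwa [e, inv_inv] at this
  · intro hb
    have := O2C_conj g z _ hb
    have e : g * (g⁻¹ * b * g) * g⁻¹ = b := by group
    rwa [e] at this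

theorem good_conj [Finite G] (z g : G) (hA : Good (O2C z) z) :
    Good (O2C (g * z * g⁻¹)) (g * z * g⁻¹) :=
  good_of_iff (O2C z) _ z g hA (fun b => O2C_iff z g b)

/-- In the orthogonal situation, `Q x ⊓ Q y ≤ Q (x y)`. -/
theorem inter_le [Finite G] (x y : G) (hGy : Good (O2C y) y) (hx1 : x ≠ 1)
    (hxy : x ≠ y) (hxQy : x ∈ O2C y) (hyQxy : y ∈ O2C (x * y)) :
    O2C x ⊓ O2C y ≤ O2C (x * y) := by
  obtain ⟨hy1, hy2, hyA, hAy, hA2, hA3, hAsq⟩ := hGy
  obtain ⟨s, hsA, hs⟩ := exists_v (O2C y) y x (hAy x hxQy) hx1 hxy hxQy hA2 hA3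
  intro e he
  have h1 : s * e * s⁻¹ ∈ O2C (x * y) := by
    have := O2C_conj s x e he.1
    rwa [hs] at this
  rcases hA2 s hsA e he.2 with h | h
  · have : s * e * s⁻¹ = e := mul_inv_eq_one.mp h
    rwa [this] at h1
  · have : s * e * s⁻¹ = y * e := mul_inv_eq_iff_eq_mul.mp h
    rw [this] at h1
    have h2 := (O2C (x * y)).mul_mem ((O2C (x * y)).inv_mem hyQxy) h1
    rwa [inv_mul_cancel_left] at h2

/-- double centralizer property, list form -/
theorem dc_list (A : Subgroup G) (z : G) (hG : Good A z) (l : List G) :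
    ∀ d ∈ A, (∀ t ∈ l, t ∈ A) → (∀ c ∈ A, (∀ t ∈ l, c * t = t * c) → d * c = c * d) →
      d ∈ Subgroup.closure (insert z {t | t ∈ l}) := by
  obtain ⟨hz1, hz2, hzA, hAz, hA2, hA3, hAsq⟩ := hG
  induction l with
  | nil =>
    intro d hd _ hcomm
    rcases hA3 d hd (fun b hb => hcomm b hb (by simp)) with h | h
    · rw [h]; exact one_mem _
    · rw [h]; exact Subgroup.subset_closure (Set.mem_insert _ _)
  | cons t l' ih =>
    intro d hd hl hcomm
    have htA : t ∈ A := hl t (by simp)
    have hl' : ∀ s ∈ l', s ∈ A := fun s hs => hl s (by simp [hs])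
    have hmono : Subgroup.closure (insert z {s | s ∈ l'})
        ≤ Subgroup.closure (insert z {s | s ∈ t :: l'}) := by
      apply Subgroup.closure_mono
      intro s hs
      rcases hs with h | h
      · exact Or.inl h
      · exact Or.inr (by simp only [Set.mem_ofPred_eq] at h ⊢; simp [h])
    have htcl : t ∈ Subgroup.closure (insert z {s | s ∈ t :: l'}) :=
      Subgroup.subset_closure (Or.inr (by simp))
    by_cases h : ∀ w ∈ A, (∀ s ∈ l', w * s = s * w) → w * t = t * w
    · apply hmono
      apply ih d hd hl'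
      intro c hc hcl
      apply hcomm c hc
      intro s hs
      rcases List.mem_cons.mp hs with rfl | hs'
      · exact h c hc hcl
      · exact hcl s hs'
    · push Not at h
      obtain ⟨w, hwA, hwl, hwt⟩ := h
      have hwt' : w * t * w⁻¹ = z * t := by
        rcases hA2 w hwA t htA with h | h
        · exact absurd (comm_of_eq_one h) hwt
        · exact mul_inv_eq_iff_eq_mul.mp h
      -- for c commuting with l' but not with t, w⁻¹ c commutes with t :: l'
      have haux : ∀ c ∈ A, (∀ s ∈ l', c * s = s * c) → c * t ≠ t * c →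
          ∀ s ∈ t :: l', (w⁻¹ * c) * s = s * (w⁻¹ * c) := by
        intro c hc hcl hct s hs
        rcases List.mem_cons.mp hs with rfl | hs'
        · have hct' : c * s * c⁻¹ = z * s := by
            rcases hA2 c hc s htA with h | h
            · exact absurd (comm_of_eq_one h) hct
            · exact mul_inv_eq_iff_eq_mul.mp h
          have : (w⁻¹ * c) * s * (w⁻¹ * c)⁻¹ = s := by
            calc (w⁻¹ * c) * s * (w⁻¹ * c)⁻¹ = w⁻¹ * (c * s * c⁻¹) * w := by group
              _ = w⁻¹ * (w * s * w⁻¹) * w := by rw [hct', hwt']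
              _ = s := by group
          exact mul_inv_eq_iff_eq_mul.mp this
        · have h1 : Commute w s := hwl s hs'
          have h2 : Commute c s := hcl s hs'
          exact (h1.inv_left.mul_left h2).eq
      by_cases hwd : d * w = w * d
      · apply hmono
        apply ih d hd hl'
        intro c hc hcl
        by_cases hct : c * t = t * c
        · apply hcomm c hc
          intro s hs
          rcases List.mem_cons.mp hs with rfl | hs'
          · exact hct
          · exact hcl s hs'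
        · have h1 := hcomm (w⁻¹ * c) (A.mul_mem (A.inv_mem hwA) hc) (haux c hc hcl hct)
          calc d * c = d * w * (w⁻¹ * c) := by group
            _ = w * (d * (w⁻¹ * c)) := by rw [hwd, mul_assoc]
            _ = w * ((w⁻¹ * c) * d) := by rw [h1]
            _ = c * d := by group
      · have hwd' : w * d * w⁻¹ = z * d := by
          rcases hA2 w hwA d hd with h | h
          · exact absurd (comm_of_eq_one h).symm hwd
          · exact mul_inv_eq_iff_eq_mul.mp h
        have hdtw : (d * t) * w = w * (d * t) := by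
          have : w * (d * t) * w⁻¹ = d * t := by
            calc w * (d * t) * w⁻¹ = (w * d * w⁻¹) * (w * t * w⁻¹) := by group
              _ = z * d * (z * t) := by rw [hwd', hwt']
              _ = d * t := by
                rw [← hAz d hd, mul_assoc, ← mul_assoc z z t, hz2, one_mul]
          exact (mul_inv_eq_iff_eq_mul.mp this).symm
        have hdt : d * t ∈ Subgroup.closure (insert z {s | s ∈ l'}) := by
          apply ih (d * t) (A.mul_mem hd htA) hl'
          intro c hc hcl
          by_cases hct : c * t = t * c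
          · have h1 := hcomm c hc (by
              intro s hs
              rcases List.mem_cons.mp hs with rfl | hs'
              · exact hct
              · exact hcl s hs')
            rw [mul_assoc, ← hct, ← mul_assoc, h1, mul_assoc]
          · have h0 := haux c hc hcl hct
            have h1 := hcomm (w⁻¹ * c) (A.mul_mem (A.inv_mem hwA) hc) h0
            have h2 : (d * t) * (w⁻¹ * c) = (w⁻¹ * c) * (d * t) := by
              have ht := h0 t (by simp)
              rw [mul_assoc, ← ht, ← mul_assoc, h1, mul_assoc]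
            calc d * t * c = (d * t) * w * (w⁻¹ * c) := by group
              _ = w * ((d * t) * (w⁻¹ * c)) := by rw [hdtw, mul_assoc]
              _ = w * ((w⁻¹ * c) * (d * t)) := by rw [h2]
              _ = c * (d * t) := by group
        have := mul_mem (hmono hdt) (inv_mem htcl)
        rwa [mul_inv_cancel_right] at this

/-- double centralizer property for a finite subgroup `U` containing the centre -/
theorem dc_subgroup [Finite G] (A : Subgroup G) (z : G) (hG : Good A z) (U : Subgroup G)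
    (hUA : U ≤ A) (hzU : z ∈ U) (d : G) (hd : d ∈ A)
    (hcomm : ∀ c ∈ A, (∀ t ∈ U, c * t = t * c) → d * c = c * d) : d ∈ U := by
  classical
  haveI : Fintype ↥U := Fintype.ofFinite _
  have hmem : ∀ t, t ∈ ((Finset.univ : Finset ↥U).toList.map (fun u : ↥U => (u : G))) ↔ t ∈ U := by
    intro t
    simp only [List.mem_map, Finset.mem_toList, Finset.mem_univ, true_and]
    constructor
    · rintro ⟨u, rfl⟩; exact u.2
    · intro h; exact ⟨⟨t, h⟩, rfl⟩
  have h1 := dc_list A z hG ((Finset.univ : Finset ↥U).toList.map (fun u : ↥U => (u : G))) d hd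
    (fun t ht => hUA ((hmem t).mp ht))
    (fun c hc hcl => hcomm c hc (fun t ht => hcl t ((hmem t).mpr ht)))
  have h2 : Subgroup.closure (insert z {t | t ∈ ((Finset.univ : Finset ↥U).toList.map
      (fun u : ↥U => (u : G)))}) ≤ U := by
    rw [Subgroup.closure_le]
    intro s hs
    rcases hs with h | h
    · rw [h]; exact hzU
    · exact (hmem s).mp h
  exact h2 h1

end Cfsg.Agent.Lib.Helper5.LargeEx
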