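import Mathlib
import Cfsg.Agent.S5595
import Cfsg.Agent.Lib.Helper5.LargeEx

set_option autoImplicit false

namespace Cfsg.Agent.Lib.Helper5.LargeEx

open Cfsg.Agent.S5595

variable {G : Type*} [Group G]

theorem mem_zpowers_two {x e : G} (hx2 : x * x = 1) : e ∈ Subgroup.zpowers x ↔ e = 1 ∨ e = x := by
  constructor
  · intro he
    obtain ⟨k, rfl⟩ := Subgroup.mem_zpowers_iff.mp he
    have h2 : x ^ (2 : ℤ) = 1 := by rw [zpow_two]; exact hx2
    rcases Int.emod_two_eq_zero_or_one k with h | h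
    · left
      have : k = 2 * (k / 2) := by omega
      rw [this, zpow_mul, h2, one_zpow]
    · right
      have : k = 2 * (k / 2) + 1 := by omega
      rw [this, zpow_add, zpow_mul, h2, one_zpow, one_mul, zpow_one]
  · rintro (rfl | rfl)
    · exact one_mem _
    · exact Subgroup.mem_zpowers _

theorem good_of_extraspecial (Q : Subgroup G) [Finite Q] (hE : Cfsg.IsExtraspecial 2 ↥Q) (z : G)
    (hzc : z ∈ (Subgroup.center ↥Q).map Q.subtype) (hz1 : z ≠ 1) : Good Q z := by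
  classical
  obtain ⟨zc, hzc', hzeq⟩ := hzc
  have hzA : z ∈ Q := by rw [← hzeq]; exact zc.2
  have hAz : ∀ a ∈ Q, a * z = z * a := by
    intro a ha
    have h1 := Subgroup.mem_center_iff.mp hzc' ⟨a, ha⟩
    have h2 := congrArg (fun t : ↥Q => (t : G)) h1
    simp only [Subgroup.coe_mul] at h2
    rw [← hzeq]; exact h2
  have hcen : ∀ c : ↥Q, c ∈ Subgroup.center ↥Q → (c : G) = 1 ∨ (c : G) = z := by
    intro c hc
    obtain ⟨y, hy, huniq⟩ := (Nat.card_eq_two_iff' (1 : Subgroup.center ↥Q)).mp hE.2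
    have hzy : (⟨zc, hzc'⟩ : Subgroup.center ↥Q) = y := by
      apply huniq
      intro h
      apply hz1
      have := congrArg (fun t : Subgroup.center ↥Q => ((t : ↥Q) : G)) h
      rw [← hzeq]
      simpa using this
    by_cases hc1 : (⟨c, hc⟩ : Subgroup.center ↥Q) = 1
    · left
      have := congrArg (fun t : Subgroup.center ↥Q => ((t : ↥Q) : G)) hc1
      simpa using this
    · right
      have h3 := huniq ⟨c, hc⟩ hc1
      rw [← hzy] at h3
      have := congrArg (fun t : Subgroup.center ↥Q => ((t : ↥Q) : G)) h3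
      rw [← hzeq]
      simpa using this
  have hz2 : z * z = 1 := by
    have h0 : zc * zc ∈ Subgroup.center ↥Q := mul_mem hzc' hzc'
    rcases hcen _ h0 with h | h
    · simp only [Subgroup.coe_mul] at h
      rw [← hzeq]; exact h
    · exfalso; apply hz1
      simp only [Subgroup.coe_mul] at h
      have hzeq' : (zc : G) = z := hzeq
      rw [hzeq'] at h
      exact mul_left_cancel (a := z) (by rw [mul_one]; exact h)
  refine ⟨hz1, hz2, hzA, hAz, ?_, ?_, ?_⟩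
  · intro a ha b hb
    have := hcen _ (Cfsg.Agent.Lib.Helper20.ESpecial.comm_mem_center hE.1.2.2 ⟨a, ha⟩ ⟨b, hb⟩)
    simpa using this
  · intro a ha hab
    have : (⟨a, ha⟩ : ↥Q) ∈ Subgroup.center ↥Q := by
      rw [Subgroup.mem_center_iff]
      intro g'
      exact Subtype.ext (hab g' g'.2).symm
    simpa using hcen _ this
  · intro a ha
    have h1 := Cfsg.Agent.Lib.Helper20.ESpecial.pow_mem_frattini hE.1.1 (⟨a, ha⟩ : ↥Q)
    rw [hE.1.2.1] at h1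
    have := hcen _ h1
    simpa [pow_two] using this

/-- elements stabilising `N` under conjugation (both ways) -/
def stabSub (N : Subgroup G) : Subgroup G where
  carrier := {c | ∀ n ∈ N, c * n * c⁻¹ ∈ N ∧ c⁻¹ * n * c ∈ N}
  one_mem' := by intro n hn; simp [hn]
  mul_mem' := by
    rintro a b ha hb n hn
    constructor
    · have : a * b * n * (a * b)⁻¹ = a * (b * n * b⁻¹) * a⁻¹ := by group
      rw [this]; exact (ha _ (hb n hn).1).1
    · have : (a * b)⁻¹ * n * (a * b) = b⁻¹ * (a⁻¹ * n * a) * b := by group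
      rw [this]; exact (hb _ (ha n hn).2).2
  inv_mem' := by
    rintro a ha n hn
    rw [inv_inv]; exact ⟨(ha n hn).2, (ha n hn).1⟩

theorem mem_stabSub (N : Subgroup G) (c : G) :
    c ∈ stabSub N ↔ ∀ n ∈ N, c * n * c⁻¹ ∈ N ∧ c⁻¹ * n * c ∈ N := Iff.rfl

/-- commutators of generators in a normalised subgroup `N` give commutators of the generated
subgroups in `N` -/
theorem comm_closure (N : Subgroup G) (S T : Set G)
    (hSinv : ∀ s ∈ S, s⁻¹ ∈ S) (hTinv : ∀ t ∈ T, t⁻¹ ∈ T)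
    (hSN : ∀ s ∈ S, ∀ n ∈ N, s * n * s⁻¹ ∈ N) (hTN : ∀ t ∈ T, ∀ n ∈ N, t * n * t⁻¹ ∈ N)
    (hc : ∀ s ∈ S, ∀ t ∈ T, s * t * s⁻¹ * t⁻¹ ∈ N) :
    ∀ a ∈ Subgroup.closure S, ∀ b ∈ Subgroup.closure T, a * b * a⁻¹ * b⁻¹ ∈ N := by
  have hS1 : Subgroup.closure S ≤ stabSub N := by
    rw [Subgroup.closure_le]
    intro s hs n hn
    refine ⟨hSN s hs n hn, ?_⟩
    have := hSN s⁻¹ (hSinv s hs) n hn
    rwa [inv_inv] at this
  have hT1 : Subgroup.closure T ≤ stabSub N := by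
    rw [Subgroup.closure_le]
    intro s hs n hn
    refine ⟨hTN s hs n hn, ?_⟩
    have := hTN s⁻¹ (hTinv s hs) n hn
    rwa [inv_inv] at this
  let M₁ : Subgroup G :=
    { carrier := {a | a ∈ stabSub N ∧ ∀ t ∈ T, (a * t * a⁻¹ * t⁻¹ ∈ N ∧ a⁻¹ * t * a * t⁻¹ ∈ N)}
      one_mem' := ⟨one_mem _, fun t _ => by simp [N.one_mem]⟩
      mul_mem' := by
        rintro a b ⟨ha0, ha⟩ ⟨hb0, hb⟩
        refine ⟨mul_mem ha0 hb0, fun t ht => ⟨?_, ?_⟩⟩
        · have : a * b * t * (a * b)⁻¹ * t⁻¹ = a * (b * t * b⁻¹ * t⁻¹) * a⁻¹ * (a * t * a⁻¹ * t⁻¹) := by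
            group
          rw [this]; exact N.mul_mem (ha0 _ (hb t ht).1).1 (ha t ht).1
        · have : (a * b)⁻¹ * t * (a * b) * t⁻¹
              = b⁻¹ * (a⁻¹ * t * a * t⁻¹) * b * (b⁻¹ * t * b * t⁻¹) := by group
          rw [this]; exact N.mul_mem (hb0 _ (ha t ht).2).2 (hb t ht).2
      inv_mem' := by
        rintro a ⟨ha0, ha⟩
        refine ⟨inv_mem ha0, fun t ht => ?_⟩
        rw [inv_inv]; exact ⟨(ha t ht).2, (ha t ht).1⟩ }
  have hM1 : Subgroup.closure S ≤ M₁ := by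
    rw [Subgroup.closure_le]
    intro s hs
    refine ⟨hS1 (Subgroup.subset_closure hs), fun t ht => ⟨hc s hs t ht, ?_⟩⟩
    have := hc s⁻¹ (hSinv s hs) t ht
    rwa [inv_inv] at this
  let M₂ : Subgroup G :=
    { carrier := {b | b ∈ stabSub N ∧ ∀ a ∈ Subgroup.closure S,
        (a * b * a⁻¹ * b⁻¹ ∈ N ∧ a * b⁻¹ * a⁻¹ * b ∈ N)}
      one_mem' := ⟨one_mem _, fun t _ => by simp [N.one_mem]⟩
      mul_mem' := by
        rintro b c ⟨hb0, hb⟩ ⟨hc0, hc'⟩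
        refine ⟨mul_mem hb0 hc0, fun a ha => ⟨?_, ?_⟩⟩
        · have : a * (b * c) * a⁻¹ * (b * c)⁻¹
              = (a * b * a⁻¹ * b⁻¹) * (b * (a * c * a⁻¹ * c⁻¹) * b⁻¹) := by group
          rw [this]; exact N.mul_mem (hb a ha).1 (hb0 _ (hc' a ha).1).1
        · have : a * (b * c)⁻¹ * a⁻¹ * (b * c)
              = (a * c⁻¹ * a⁻¹ * c) * (c⁻¹ * (a * b⁻¹ * a⁻¹ * b) * c) := by group
          rw [this]; exact N.mul_mem (hc' a ha).2 (hc0 _ (hb a ha).2).2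
      inv_mem' := by
        rintro b ⟨hb0, hb⟩
        refine ⟨inv_mem hb0, fun a ha => ?_⟩
        rw [inv_inv]; exact ⟨(hb a ha).2, (hb a ha).1⟩ }
  have hM2 : Subgroup.closure T ≤ M₂ := by
    rw [Subgroup.closure_le]
    intro t ht
    refine ⟨hT1 (Subgroup.subset_closure ht), fun a ha => ⟨((hM1 ha).2 t ht).1, ?_⟩⟩
    have := ((hM1 ha).2 t⁻¹ (hTinv t ht)).1
    rwa [inv_inv] at this
  intro a ha b hb
  exact ((hM2 hb).2 a ha).1

theorem norm_conj (A B : Subgroup G) (z g : G)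
    (hNA : ∀ g' : G, g' * z = z * g' → ∀ a ∈ A, g' * a * g'⁻¹ ∈ A)
    (hBiff : ∀ b, b ∈ B ↔ g⁻¹ * b * g ∈ A) :
    ∀ c : G, c * (g * z * g⁻¹) = (g * z * g⁻¹) * c → ∀ b ∈ B, c * b * c⁻¹ ∈ B := by
  intro c hc b hb
  rw [hBiff]
  have e : g⁻¹ * (c * b * c⁻¹) * g = (g⁻¹ * c * g) * (g⁻¹ * b * g) * (g⁻¹ * c * g)⁻¹ := by group
  rw [e]
  apply hNA _ _ _ ((hBiff b).mp hb)
  calc (g⁻¹ * c * g) * z = g⁻¹ * (c * (g * z * g⁻¹)) * g := by group
    _ = g⁻¹ * ((g * z * g⁻¹) * c) * g := by rw [hc]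
    _ = z * (g⁻¹ * c * g) := by group

theorem cent_conj (A B : Subgroup G) (g : G)
    (hA4 : ∀ g' : G, (∀ a ∈ A, g' * a = a * g') → g' ∈ A)
    (hBiff : ∀ b, b ∈ B ↔ g⁻¹ * b * g ∈ A) :
    ∀ g' : G, (∀ b ∈ B, g' * b = b * g') → g' ∈ B := by
  intro g' hg'
  rw [hBiff]
  apply hA4
  intro a ha
  have h1 : g * a * g⁻¹ ∈ B := by
    rw [hBiff]
    have : g⁻¹ * (g * a * g⁻¹) * g = a := by group
    rw [this]; exact ha
  have h2 := hg' _ h1
  calc g⁻¹ * g' * g * a = g⁻¹ * (g' * (g * a * g⁻¹)) * g := by group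
    _ = g⁻¹ * ((g * a * g⁻¹) * g') * g := by rw [h2]
    _ = a * (g⁻¹ * g' * g) := by group

/-- An element normalising `A` and centralising `C_A(x)` lies in `{1, z, x, xz}`. -/
theorem cent_P_four (A : Subgroup G) (z x : G) (hG : Good A z) (hxA : x ∈ A) (hx1 : x ≠ 1)
    (hxnz : x ≠ z) (hx2 : x * x = 1)
    (hA4 : ∀ g' : G, (∀ a ∈ A, g' * a = a * g') → g' ∈ A)
    (c : G) (hcA : ∀ a ∈ A, c * a * c⁻¹ ∈ A)
    (hcP : ∀ p ∈ A, p * x = x * p → c * p = p * c) :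
    c = 1 ∨ c = z ∨ c = x ∨ c = x * z := by
  obtain ⟨hz1, hz2, hzA, hAz, hA2, hA3, hAsq⟩ := hG
  have hxz : x * z = z * x := hAz x hxA
  have hxi : x⁻¹ = x := inv_eq_of_mul_eq_one_right hx2
  obtain ⟨a₀, ha₀, hax⟩ := exists_v A z x hxz hx1 hxnz hxA hA2 hA3
  have hax' : a₀⁻¹ * x * a₀ = x * z := by
    have h1 : a₀⁻¹ * (a₀ * x * a₀⁻¹) * a₀ = x := by group
    rw [hax] at h1
    have h2 : a₀⁻¹ * (x * z) * a₀ = (a₀⁻¹ * x * a₀) * z := by
      have hz' : a₀⁻¹ * z * a₀ = z := by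
        rw [mul_assoc, ← hAz a₀ ha₀, inv_mul_cancel_left]
      calc a₀⁻¹ * (x * z) * a₀ = (a₀⁻¹ * x * a₀) * (a₀⁻¹ * z * a₀) := by group
        _ = (a₀⁻¹ * x * a₀) * z := by rw [hz']
    rw [h2] at h1
    have h3 := eq_mul_inv_of_mul_eq h1
    rw [h3, inv_eq_of_mul_eq_one_right hz2]
  -- key sub-lemma
  have sub : ∀ c' : G, (∀ p ∈ A, p * x = x * p → c' * p = p * c') → c' * a₀ = a₀ * c' →
      c' = 1 ∨ c' = z := by
    intro c' hc'P hc'a
    have hall : ∀ a ∈ A, c' * a = a * c' := by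
      intro a ha
      by_cases hax0 : a * x = x * a
      · exact hc'P a ha hax0
      · have h1 : a * x * a⁻¹ = x * z := by
          rcases hA2 a ha x hxA with h | h
          · exact absurd (comm_of_eq_one h) hax0
          · rw [mul_inv_eq_iff_eq_mul.mp h, hxz]
        have hp : (a₀⁻¹ * a) * x = x * (a₀⁻¹ * a) := by
          have : (a₀⁻¹ * a) * x * (a₀⁻¹ * a)⁻¹ = x := by
            calc (a₀⁻¹ * a) * x * (a₀⁻¹ * a)⁻¹ = a₀⁻¹ * (a * x * a⁻¹) * a₀ := by group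
              _ = a₀⁻¹ * (a₀ * x * a₀⁻¹) * a₀ := by rw [h1, hax]
              _ = x := by group
          exact mul_inv_eq_iff_eq_mul.mp this
        have h2 := hc'P _ (A.mul_mem (A.inv_mem ha₀) ha) hp
        calc c' * a = c' * a₀ * (a₀⁻¹ * a) := by group
          _ = a₀ * (c' * (a₀⁻¹ * a)) := by rw [hc'a, mul_assoc]
          _ = a₀ * ((a₀⁻¹ * a) * c') := by rw [h2]
          _ = a * c' := by group
    exact hA3 c' (hA4 c' hall) hall
  have hcx : c * x = x * c := hcP x hxA rfl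
  have hcz : c * z = z * c := hcP z hzA (hAz x hxA).symm
  have hxzP : (x * z) * x = x * (x * z) := by rw [mul_assoc, ← hxz]
  have hcxz : c * (x * z) = (x * z) * c := hcP (x * z) (A.mul_mem hxA hzA) hxzP
  have hbA : c * a₀ * c⁻¹ ∈ A := hcA a₀ ha₀
  have hsA : a₀⁻¹ * (c * a₀ * c⁻¹) ∈ A := A.mul_mem (A.inv_mem ha₀) hbA
  have hcinv : ∀ p ∈ A, p * x = x * p → c⁻¹ * p * c = p := by
    intro p hp hpx
    rw [mul_assoc, ← hcP p hp hpx, inv_mul_cancel_left]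
  have hconjc : ∀ p ∈ A, p * x = x * p → c * p * c⁻¹ = p := by
    intro p hp hpx
    rw [hcP p hp hpx, mul_inv_cancel_right]
  have hsP : ∀ p ∈ A, p * x = x * p → p * (a₀⁻¹ * (c * a₀ * c⁻¹)) = (a₀⁻¹ * (c * a₀ * c⁻¹)) * p := by
    intro p hp hpx
    -- a₀ p a₀⁻¹ ∈ P
    have hq : (a₀ * p * a₀⁻¹) * x = x * (a₀ * p * a₀⁻¹) := by
      have : (a₀ * p * a₀⁻¹) * x * (a₀ * p * a₀⁻¹)⁻¹ = x := by
        calc (a₀ * p * a₀⁻¹) * x * (a₀ * p * a₀⁻¹)⁻¹
            = a₀ * (p * (a₀⁻¹ * x * a₀) * p⁻¹) * a₀⁻¹ := by group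
          _ = a₀ * (p * (x * z) * p⁻¹) * a₀⁻¹ := by rw [hax']
          _ = a₀ * (x * z) * a₀⁻¹ := by
            have : p * (x * z) * p⁻¹ = x * z := by
              calc p * (x * z) * p⁻¹ = (p * x) * (z * p⁻¹) := by group
                _ = (x * p) * (z * p⁻¹) := by rw [hpx]
                _ = x * (p * z) * p⁻¹ := by group
                _ = x * (z * p) * p⁻¹ := by rw [hAz p hp]
                _ = x * z := by group
            rw [this]
          _ = (a₀ * x * a₀⁻¹) * (a₀ * z * a₀⁻¹) := by group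
          _ = x * z * z := by rw [hax, hAz a₀ ha₀, mul_inv_cancel_right]
          _ = x := by rw [mul_assoc, hz2, mul_one]
      exact mul_inv_eq_iff_eq_mul.mp this
    have hqA : a₀ * p * a₀⁻¹ ∈ A := A.mul_mem (A.mul_mem ha₀ hp) (A.inv_mem ha₀)
    have h1 : (c * a₀ * c⁻¹) * p * (c * a₀ * c⁻¹)⁻¹ = a₀ * p * a₀⁻¹ := by
      calc (c * a₀ * c⁻¹) * p * (c * a₀ * c⁻¹)⁻¹ = c * (a₀ * (c⁻¹ * p * c) * a₀⁻¹) * c⁻¹ := by group
        _ = c * (a₀ * p * a₀⁻¹) * c⁻¹ := by rw [hcinv p hp hpx]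
        _ = a₀ * p * a₀⁻¹ := hconjc _ hqA hq
    have h2 : (a₀⁻¹ * (c * a₀ * c⁻¹)) * p * (a₀⁻¹ * (c * a₀ * c⁻¹))⁻¹ = p := by
      calc (a₀⁻¹ * (c * a₀ * c⁻¹)) * p * (a₀⁻¹ * (c * a₀ * c⁻¹))⁻¹
          = a₀⁻¹ * ((c * a₀ * c⁻¹) * p * (c * a₀ * c⁻¹)⁻¹) * a₀ := by group
        _ = a₀⁻¹ * (a₀ * p * a₀⁻¹) * a₀ := by rw [h1]
        _ = p := by group
    exact (mul_inv_eq_iff_eq_mul.mp h2).symm
  have hs4 := center_P A z x hz2 hx2 hxA hAz hA2 hA3 _ hsA hsP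
  -- squares
  have hsq : (a₀⁻¹ * (a₀⁻¹ * (c * a₀ * c⁻¹)) * a₀) * (a₀⁻¹ * (c * a₀ * c⁻¹)) = 1 := by
    have h1 : (c * a₀ * c⁻¹) * (c * a₀ * c⁻¹) = a₀ * a₀ := by
      have h0 : (c * a₀ * c⁻¹) * (c * a₀ * c⁻¹) = c * (a₀ * a₀) * c⁻¹ := by group
      rw [h0]
      rcases hAsq a₀ ha₀ with h | h
      · rw [h, mul_one, mul_inv_cancel]
      · rw [h, hcz, mul_inv_cancel_right]
    calc (a₀⁻¹ * (a₀⁻¹ * (c * a₀ * c⁻¹)) * a₀) * (a₀⁻¹ * (c * a₀ * c⁻¹))
        = a₀⁻¹ * a₀⁻¹ * ((c * a₀ * c⁻¹) * (c * a₀ * c⁻¹)) := by group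
      _ = a₀⁻¹ * a₀⁻¹ * (a₀ * a₀) := by rw [h1]
      _ = 1 := by group
  have hs2 : a₀⁻¹ * (c * a₀ * c⁻¹) = 1 ∨ a₀⁻¹ * (c * a₀ * c⁻¹) = z := by
    rcases hs4 with h | h | h | h
    · exact Or.inl h
    · exact Or.inr h
    · exfalso
      rw [h, hax'] at hsq
      apply hz1
      calc z = x * z * x := by rw [hxz, mul_assoc, hx2, mul_one]
        _ = 1 := hsq
    · exfalso
      rw [h] at hsq
      have h5 : a₀⁻¹ * (x * z) * a₀ = x := by
        have : a₀⁻¹ * (a₀ * x * a₀⁻¹) * a₀ = x := by group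
        rwa [hax] at this
      rw [h5] at hsq
      apply hz1
      calc z = x * (x * z) := by rw [← mul_assoc, hx2, one_mul]
        _ = 1 := hsq
  rcases hs2 with h | h
  · -- c commutes with a₀
    have hca : c * a₀ = a₀ * c := by
      have : c * a₀ * c⁻¹ = a₀ := by
        have h' := congrArg (fun t => a₀ * t) h
        simpa using h'
      exact mul_inv_eq_iff_eq_mul.mp this
    rcases sub c hcP hca with h' | h'
    · exact Or.inl h'
    · exact Or.inr (Or.inl h')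
  · have hca : c * a₀ * c⁻¹ = a₀ * z := by
      have h' := congrArg (fun t => a₀ * t) h
      simpa using h'
    have hxa : x * a₀ * x⁻¹ = a₀ * z := by
      calc x * a₀ * x⁻¹ = a₀ * (a₀⁻¹ * x * a₀) * x⁻¹ := by group
        _ = a₀ * (x * z) * x := by rw [hax', hxi]
        _ = a₀ * z := by rw [hxz, mul_assoc a₀, mul_assoc z, hx2, mul_one]
    have hc'a : (x * c) * a₀ = a₀ * (x * c) := by
      have : (x * c) * a₀ * (x * c)⁻¹ = a₀ := by
        calc (x * c) * a₀ * (x * c)⁻¹ = x * (c * a₀ * c⁻¹) * x⁻¹ := by group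
          _ = x * (a₀ * z) * x⁻¹ := by rw [hca]
          _ = (x * a₀ * x⁻¹) * (x * z * x⁻¹) := by group
          _ = a₀ * z * z := by rw [hxa, hxz, mul_inv_cancel_right]
          _ = a₀ := by rw [mul_assoc, hz2, mul_one]
      exact mul_inv_eq_iff_eq_mul.mp this
    have hc'P : ∀ p ∈ A, p * x = x * p → (x * c) * p = p * (x * c) := by
      intro p hp hpx
      rw [mul_assoc, hcP p hp hpx, ← mul_assoc, ← hpx, mul_assoc]
    rcases sub (x * c) hc'P hc'a with h' | h'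
    · right; right; left
      have := eq_inv_of_mul_eq_one_right h'
      rw [this, hxi]
    · right; right; right
      have : c = x⁻¹ * z := by rw [← h']; group
      rw [this, hxi]

end Cfsg.Agent.Lib.Helper5.LargeEx
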