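import Mathlib

set_option autoImplicit false

namespace Cfsg.Agent.Lib.Helper5.CharSimple

def snocMulEquiv (T : Type*) [Group T] (m : ℕ) : (Fin m → T) × T ≃* (Fin (m + 1) → T) where
  toFun p := Fin.snoc (α := fun _ => T) p.1 p.2
  invFun g := (Fin.init (α := fun _ => T) g, g (Fin.last m))
  left_inv p := by
    ext i
    · simp [Fin.init]
    · simp
  right_inv g := by
    ext i
    refine Fin.lastCases ?_ (fun j => ?_) i
    · simp
    · simp [Fin.init]
  map_mul' p q := by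
    ext i
    refine Fin.lastCases ?_ (fun j => ?_) i
    · simp
    · simp

theorem exists_simple_power {Γ : Type*} [Group Γ] [Finite Γ] [Nontrivial Γ] {Hh : Type*}
    [Group Hh] (ρ : Hh →* MulAut Γ)
    (hmin : ∀ M : Subgroup Γ, M.Normal → (∀ h : Hh, M.map (ρ h).toMonoidHom ≤ M) →
      M = ⊥ ∨ M = ⊤) :
    ∃ (T : Subgroup Γ) (m : ℕ), IsSimpleGroup T ∧ 0 < m ∧ Nonempty (Γ ≃* (Fin m → T)) := by
  classical
  have htop : (⊤ : Subgroup Γ) ≠ ⊥ := by
    intro h
    obtain ⟨x, hx⟩ := exists_ne (1 : Γ)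
    have : x ∈ (⊤ : Subgroup Γ) := trivial
    rw [h, Subgroup.mem_bot] at this
    exact hx this
  have hex : ∃ n, ∃ T : Subgroup Γ, T.Normal ∧ T ≠ ⊥ ∧ Nat.card T = n :=
    ⟨_, ⊤, inferInstance, htop, rfl⟩
  obtain ⟨T₀, hT₀n, hT₀ne, hT₀card⟩ := Nat.find_spec hex
  have hmincard : ∀ A : Subgroup Γ, A.Normal → A ≠ ⊥ → Nat.card T₀ ≤ Nat.card A := by
    intro A hAn hAne
    rw [hT₀card]
    exact Nat.find_min' hex ⟨A, hAn, hAne, rfl⟩
  have hTcn : ∀ h : Hh, (T₀.map (ρ h).toMonoidHom).Normal := fun h =>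
    hT₀n.map _ (ρ h).surjective
  have hTccard : ∀ h : Hh, Nat.card (T₀.map (ρ h).toMonoidHom) = Nat.card T₀ := fun h =>
    Subgroup.card_map_of_injective (ρ h).injective
  have hTcmin : ∀ (h : Hh) (A : Subgroup Γ), A.Normal → A ≠ ⊥ → A ≤ T₀.map (ρ h).toMonoidHom →
      A = T₀.map (ρ h).toMonoidHom := by
    intro h A hAn hAne hAle
    apply Subgroup.eq_of_le_of_card_ge hAle
    rw [hTccard]
    exact hmincard A hAn hAne
  let S : Subgroup Γ → Prop := fun K => K.Normal ∧ T₀ ≤ K ∧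
    (∃ m, 0 < m ∧ Nonempty (K ≃* (Fin m → T₀))) ∧
    (∀ k ∈ K, ∃ t ∈ T₀, ∃ c, (∀ t' ∈ T₀, c * t' = t' * c) ∧ k = t * c)
  have hS0 : S T₀ := ⟨hT₀n, le_refl _, ⟨1, one_pos, ⟨(MulEquiv.funUnique (Fin 1) T₀).symm⟩⟩,
    fun k hk => ⟨k, hk, 1, fun t' _ => by rw [one_mul, mul_one], by rw [mul_one]⟩⟩
  obtain ⟨K, hSK, hKmax⟩ : ∃ K, S K ∧ ∀ K', S K' → Nat.card K' ≤ Nat.card K := by
    have hb : ∀ K : Subgroup Γ, Nat.card K ≤ Nat.card Γ := fun K => Subgroup.card_le_card_group K
    let P : ℕ → Prop := fun n => ∃ K, S K ∧ Nat.card K = n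
    have hP : P (Nat.card T₀) := ⟨T₀, hS0, rfl⟩
    have hspec := Nat.findGreatest_spec (P := P) (hb T₀) hP
    obtain ⟨K, hSK, hKc⟩ := hspec
    refine ⟨K, hSK, fun K' hS' => ?_⟩
    rw [hKc]
    exact Nat.le_findGreatest (hb K') ⟨K', hS', rfl⟩
  obtain ⟨hKn, hT₀K, ⟨m, hm, ⟨e4⟩⟩, hKdec⟩ := hSK
  have hKtop : K = ⊤ := by
    by_contra hKne
    have hexh : ∃ h : Hh, ¬ T₀.map (ρ h).toMonoidHom ≤ K := by
      by_contra hall
      push Not at hall
      apply hKne
      have hJle : (⨆ h : Hh, T₀.map (ρ h).toMonoidHom) ≤ K := iSup_le hall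
      have hJn : (⨆ h : Hh, T₀.map (ρ h).toMonoidHom).Normal := by
        have : ∀ h : Hh, (T₀.map (ρ h).toMonoidHom).Normal := hTcn
        exact Subgroup.iSup_normal _
      have hJinv : ∀ h' : Hh, (⨆ h : Hh, T₀.map (ρ h).toMonoidHom).map (ρ h').toMonoidHom ≤
          ⨆ h : Hh, T₀.map (ρ h).toMonoidHom := by
        intro h'
        rw [Subgroup.map_iSup]
        apply iSup_le
        intro h
        rw [Subgroup.map_map]
        have h1 : (ρ h').toMonoidHom.comp (ρ h).toMonoidHom = (ρ (h' * h)).toMonoidHom := by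
          ext x
          simp [map_mul]
        rw [h1]
        exact le_iSup (fun h : Hh => T₀.map (ρ h).toMonoidHom) (h' * h)
      have hJne : (⨆ h : Hh, T₀.map (ρ h).toMonoidHom) ≠ ⊥ := by
        intro hbot
        apply hT₀ne
        have h1 : T₀.map (ρ 1).toMonoidHom ≤ ⨆ h : Hh, T₀.map (ρ h).toMonoidHom :=
          le_iSup (fun h : Hh => T₀.map (ρ h).toMonoidHom) 1
        rw [hbot, le_bot_iff] at h1
        exact (Subgroup.map_eq_bot_iff_of_injective T₀ (ρ 1).injective).mp h1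
      rcases hmin _ hJn hJinv with h1 | h1
      · exact absurd h1 hJne
      · rw [h1] at hJle
        exact top_le_iff.mp hJle
    obtain ⟨h, hh⟩ := hexh
    have hT'n := hTcn h
    have hdisj : T₀.map (ρ h).toMonoidHom ⊓ K = ⊥ := by
      by_contra hne
      apply hh
      have h1 := hTcmin h (T₀.map (ρ h).toMonoidHom ⊓ K)
        (Subgroup.normal_inf_normal _ K) hne inf_le_left
      rw [← h1]
      exact inf_le_right
    have hcomm : ∀ (k : K) (t : T₀.map (ρ h).toMonoidHom),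
        Commute (K.subtype k) ((T₀.map (ρ h).toMonoidHom).subtype t) := by
      intro k t
      exact Subgroup.commute_of_normal_of_disjoint K _ hKn hT'n
        (disjoint_iff.mpr (by rw [inf_comm]; exact hdisj)) k t k.2 t.2
    have hψinj : Function.Injective (MonoidHom.noncommCoprod K.subtype
        (T₀.map (ρ h).toMonoidHom).subtype hcomm) := by
      rw [MonoidHom.noncommCoprod_injective]
      refine ⟨K.subtype_injective, Subgroup.subtype_injective _, ?_⟩
      rw [Subgroup.range_subtype, Subgroup.range_subtype, disjoint_iff, inf_comm]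
      exact hdisj
    have hψrange : (MonoidHom.noncommCoprod K.subtype
        (T₀.map (ρ h).toMonoidHom).subtype hcomm).range = K ⊔ T₀.map (ρ h).toMonoidHom := by
      rw [MonoidHom.noncommCoprod_range, Subgroup.range_subtype, Subgroup.range_subtype]
    have hS' : S (K ⊔ T₀.map (ρ h).toMonoidHom) := by
      refine ⟨Subgroup.sup_normal K _, le_trans hT₀K le_sup_left, ⟨m + 1, Nat.succ_pos m, ⟨?_⟩⟩, ?_⟩
      · exact ((MulEquiv.subgroupCongr hψrange).symm.trans
          (MonoidHom.ofInjective hψinj).symm).trans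
          ((MulEquiv.prodCongr e4 (T₀.equivMapOfInjective (ρ h).toMonoidHom
            (ρ h).injective).symm).trans (snocMulEquiv T₀ m))
      · intro x hx
        rw [← hψrange] at hx
        obtain ⟨⟨k, t'⟩, rfl⟩ := hx
        obtain ⟨t, ht, c, hc, hkt⟩ := hKdec k k.2
        refine ⟨t, ht, c * (t' : Γ), ?_, ?_⟩
        · intro t₀ ht₀
          have h1 := (hcomm ⟨t₀, hT₀K ht₀⟩ t').eq
          simp only [Subgroup.coe_subtype] at h1
          rw [mul_assoc, ← h1, ← mul_assoc, hc t₀ ht₀, mul_assoc]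
        · rw [MonoidHom.noncommCoprod_apply]
          simp only [Subgroup.coe_subtype]
          rw [hkt, mul_assoc]
    have hcard := hKmax _ hS'
    have hEq : K = K ⊔ T₀.map (ρ h).toMonoidHom :=
      Subgroup.eq_of_le_of_card_ge le_sup_left hcard
    apply hh
    rw [hEq]
    exact le_sup_right
  subst hKtop
  refine ⟨T₀, m, ?_, hm, ⟨Subgroup.topEquiv.symm.trans e4⟩⟩
  have hnt : Nontrivial T₀ := (Subgroup.nontrivial_iff_ne_bot T₀).mpr hT₀ne
  refine ⟨fun A hA => ?_⟩
  by_cases hAbot : A = ⊥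
  · exact Or.inl hAbot
  · right
    have hA'n : (A.map T₀.subtype).Normal := by
      constructor
      rintro _ ⟨a, ha, rfl⟩ x
      obtain ⟨t, ht, c, hc, hx⟩ := hKdec x trivial
      have h1 : x * T₀.subtype a * x⁻¹ = T₀.subtype (⟨t, ht⟩ * a * ⟨t, ht⟩⁻¹) := by
        have h2 := hc a a.2
        simp only [Subgroup.coe_subtype, Subgroup.coe_mul, Subgroup.coe_inv]
        rw [hx, mul_inv_rev]
        have h3 : t * c * ↑a * (c⁻¹ * t⁻¹) = t * (c * ↑a) * c⁻¹ * t⁻¹ := by group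
        rw [h3, h2]
        group
      rw [h1]
      exact ⟨_, hA.conj_mem a ha _, rfl⟩
    have hA'ne : A.map T₀.subtype ≠ ⊥ := by
      intro hb
      exact hAbot ((Subgroup.map_eq_bot_iff_of_injective A T₀.subtype_injective).mp hb)
    have hA'le : A.map T₀.subtype ≤ T₀ := by
      rintro _ ⟨a, _, rfl⟩
      exact a.2
    have hA'eq : A.map T₀.subtype = T₀ :=
      Subgroup.eq_of_le_of_card_ge hA'le (hmincard _ hA'n hA'ne)
    rw [Subgroup.eq_top_iff']
    intro y
    have hy : (y : Γ) ∈ A.map T₀.subtype := by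
      rw [hA'eq]
      exact y.2
    obtain ⟨a, ha, hay⟩ := hy
    have : a = y := Subtype.ext hay
    rw [← this]
    exact ha

end Cfsg.Agent.Lib.Helper5.CharSimple
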