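import Mathlib
import Cfsg.Agent.S1465
import Cfsg.Agent.S1466
import Cfsg.Agent.S1467
import Cfsg.Agent.Lib.Helper12.SylowBasic

set_option autoImplicit false
open Cfsg

namespace Cfsg.Agent.Lib.Helper5.Puig

variable {G : Type*} [Group G]

/-- the Puig step inside a subgroup `H`, as a subgroup of the ambient group -/
def stepG (H X : Subgroup G) : Subgroup G :=
  sSup {A : Subgroup G | A ≤ H ∧ IsMulCommutative A ∧ X ≤ Subgroup.normalizer (A : Set G)}

/-- the Puig series of a subgroup `H`, as subgroups of the ambient group -/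
def seqG (H : Subgroup G) : ℕ → Subgroup G
  | 0 => ⊥
  | n + 1 => stepG H (seqG H n)

/-- `L(H)` inside the ambient group -/
def upG (H : Subgroup G) : Subgroup G := ⨅ n : ℕ, seqG H (2 * n + 1)

/-- `L_*(H)` inside the ambient group -/
def lowG (H : Subgroup G) : Subgroup G := ⨆ n : ℕ, seqG H (2 * n)

theorem seqG_zero (H : Subgroup G) : seqG H 0 = ⊥ := rfl

theorem seqG_succ (H : Subgroup G) (n : ℕ) : seqG H (n + 1) = stepG H (seqG H n) := rfl

theorem stepG_le (H X : Subgroup G) : stepG H X ≤ H := sSup_le (fun _ hA => hA.1)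

theorem seqG_le (H : Subgroup G) (n : ℕ) : seqG H n ≤ H := by
  cases n with
  | zero => exact bot_le
  | succ k => exact stepG_le H _

theorem upG_le (H : Subgroup G) : upG H ≤ H := (iInf_le _ 0).trans (seqG_le H _)

theorem lowG_le (H : Subgroup G) : lowG H ≤ H := iSup_le (fun _ => seqG_le H _)

theorem le_normalizer_of_conj {X A : Subgroup G} (h : ∀ x ∈ X, ∀ a ∈ A, x * a * x⁻¹ ∈ A) :
    X ≤ Subgroup.normalizer (A : Set G) := by
  intro x hx
  rw [Subgroup.mem_normalizer_iff]
  intro a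
  constructor
  · exact h x hx a
  · intro ha
    have h1 := h x⁻¹ (X.inv_mem hx) _ ha
    have e : x⁻¹ * (x * a * x⁻¹) * x⁻¹⁻¹ = a := by group
    rw [e] at h1; exact h1

theorem conj_mem_of_le_normalizer {X A : Subgroup G} (h : X ≤ Subgroup.normalizer (A : Set G))
    {x a : G} (hx : x ∈ X) (ha : a ∈ A) : x * a * x⁻¹ ∈ A :=
  (Subgroup.mem_normalizer_iff.mp (h hx) a).mp ha

theorem stepG_mono {H H' X X' : Subgroup G} (hH : H ≤ H') (hX : X' ≤ X) :
    stepG H X ≤ stepG H' X' := by
  apply sSup_le_sSup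
  rintro A ⟨h1, h2, h3⟩
  exact ⟨h1.trans hH, h2, hX.trans h3⟩

theorem stepG_le_stepG {H H' X X' : Subgroup G} (hX : X' ≤ X) (hH : stepG H X ≤ H') :
    stepG H X ≤ stepG H' X' := by
  apply sSup_le
  intro A hA
  apply le_sSup
  exact ⟨(le_sSup hA).trans hH, hA.2.1, hX.trans hA.2.2⟩

theorem map_stepG {G' : Type*} [Group G'] (f : G →* G') (H X : Subgroup G) (hX : X ≤ H)
    (hinj : ∀ a ∈ H, ∀ b ∈ H, f a = f b → a = b) :
    (stepG H X).map f = stepG (H.map f) (X.map f) := by
  apply le_antisymm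
  · unfold stepG
    rw [Subgroup.map_le_iff_le_comap]
    apply sSup_le
    rintro A ⟨hAH, hAc, hXA⟩
    rw [← Subgroup.map_le_iff_le_comap]
    apply le_sSup
    refine ⟨Subgroup.map_mono hAH, ?_, ?_⟩
    · infer_instance
    · exact (Subgroup.map_mono hXA).trans (Subgroup.le_normalizer_map f)
  · unfold stepG
    apply sSup_le
    rintro B ⟨hBH, hBc, hXB⟩
    have hA : B.comap f ⊓ H ∈ {A : Subgroup G | A ≤ H ∧ IsMulCommutative A ∧
        X ≤ Subgroup.normalizer (A : Set G)} := by
      refine ⟨inf_le_right, ?_, ?_⟩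
      · constructor; constructor
        rintro ⟨a, ha⟩ ⟨b, hb⟩
        apply Subtype.ext
        show a * b = b * a
        have ha' := Subgroup.mem_inf.mp ha
        have hb' := Subgroup.mem_inf.mp hb
        apply hinj _ (H.mul_mem ha'.2 hb'.2) _ (H.mul_mem hb'.2 ha'.2)
        rw [map_mul, map_mul]
        have h1 := hBc.is_comm.comm ⟨f a, ha'.1⟩ ⟨f b, hb'.1⟩
        exact congrArg Subtype.val h1
      · apply le_normalizer_of_conj
        intro x hx a ha
        have ha' := Subgroup.mem_inf.mp ha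
        refine Subgroup.mem_inf.mpr
          ⟨?_, H.mul_mem (H.mul_mem (hX hx) ha'.2) (H.inv_mem (hX hx))⟩
        show f (x * a * x⁻¹) ∈ B
        rw [map_mul, map_mul, map_inv]
        exact conj_mem_of_le_normalizer hXB (Subgroup.mem_map_of_mem f hx) ha'.1
    have hBeq : B = (B.comap f ⊓ H).map f := by
      apply le_antisymm
      · intro b hb
        obtain ⟨a, haH, rfl⟩ := hBH hb
        exact ⟨a, Subgroup.mem_inf.mpr ⟨hb, haH⟩, rfl⟩
      · rintro _ ⟨a, ha, rfl⟩
        exact (Subgroup.mem_inf.mp ha).1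
    rw [hBeq]
    exact Subgroup.map_mono (le_sSup hA)

theorem map_seqG {G' : Type*} [Group G'] (f : G →* G') (H : Subgroup G)
    (hinj : ∀ a ∈ H, ∀ b ∈ H, f a = f b → a = b) (n : ℕ) :
    (seqG H n).map f = seqG (H.map f) n := by
  induction n with
  | zero => exact Subgroup.map_bot f
  | succ k ih =>
    rw [seqG_succ, seqG_succ, map_stepG f H _ (seqG_le H k) hinj, ih]

theorem map_lowG {G' : Type*} [Group G'] (f : G →* G') (H : Subgroup G)
    (hinj : ∀ a ∈ H, ∀ b ∈ H, f a = f b → a = b) :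
    (lowG H).map f = lowG (H.map f) := by
  unfold lowG
  rw [Subgroup.map_iSup]
  exact iSup_congr (fun n => map_seqG f H hinj _)

theorem map_upG {G' : Type*} [Group G'] (f : G →* G') (H : Subgroup G)
    (hinj : ∀ a ∈ H, ∀ b ∈ H, f a = f b → a = b) :
    (upG H).map f = upG (H.map f) := by
  unfold upG
  apply le_antisymm
  · apply le_iInf; intro n
    rw [← map_seqG f H hinj]
    exact Subgroup.map_mono (iInf_le _ n)
  · intro y hy
    rw [Subgroup.mem_iInf] at hy
    have h0 := hy 0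
    rw [← map_seqG f H hinj] at h0
    obtain ⟨x, hx, rfl⟩ := h0
    refine ⟨x, Subgroup.mem_iInf.mpr ?_, rfl⟩
    intro n
    have hn := hy n
    rw [← map_seqG f H hinj] at hn
    obtain ⟨x', hx', he⟩ := hn
    have e : x' = x := hinj _ (seqG_le H _ hx') _ (seqG_le H _ hx) he
    rw [← e]; exact hx'

theorem map_zg {G' : Type*} [Group G'] (f : G →* G') (H L : Subgroup G) (hL : L ≤ H)
    (hinj : ∀ a ∈ H, ∀ b ∈ H, f a = f b → a = b) :
    (L ⊓ Subgroup.centralizer (L : Set G)).map f =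
      L.map f ⊓ Subgroup.centralizer ((L.map f : Subgroup G') : Set G') := by
  apply le_antisymm
  · rintro _ ⟨x, hx, rfl⟩
    obtain ⟨hxL, hxC⟩ := Subgroup.mem_inf.mp hx
    refine Subgroup.mem_inf.mpr ⟨Subgroup.mem_map_of_mem f hxL, ?_⟩
    rw [Subgroup.mem_centralizer_iff]
    rintro _ ⟨y, hy, rfl⟩
    rw [← map_mul, ← map_mul, Subgroup.mem_centralizer_iff.mp hxC y hy]
  · intro y hy
    obtain ⟨hyL, hyC⟩ := Subgroup.mem_inf.mp hy
    obtain ⟨x, hxL, rfl⟩ := hyL
    refine ⟨x, Subgroup.mem_inf.mpr ⟨hxL, ?_⟩, rfl⟩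
    rw [Subgroup.mem_centralizer_iff]
    intro l hl
    apply hinj _ (H.mul_mem (hL hl) (hL hxL)) _ (H.mul_mem (hL hxL) (hL hl))
    rw [map_mul, map_mul]
    exact Subgroup.mem_centralizer_iff.mp hyC _ (Subgroup.mem_map_of_mem f hl)

theorem stepG_top {R : Type*} [Group R] (X : Subgroup R) :
    stepG ⊤ X = Cfsg.puigStep X := by
  unfold stepG Cfsg.puigStep
  congr 1
  ext A
  simp

theorem seqG_top {R : Type*} [Group R] (n : ℕ) :
    seqG (⊤ : Subgroup R) n = Cfsg.puigSeq R n := by
  induction n with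
  | zero => rfl
  | succ k ih =>
    rw [seqG_succ, Cfsg.Agent.S1467.seq_succ, ih, stepG_top]

theorem upG_top {R : Type*} [Group R] : upG (⊤ : Subgroup R) = Cfsg.puigSubgroup R := by
  unfold upG Cfsg.puigSubgroup
  exact iInf_congr (fun n => seqG_top _)

theorem lowG_top {R : Type*} [Group R] : lowG (⊤ : Subgroup R) = Cfsg.puigLower R := by
  unfold lowG Cfsg.puigLower
  exact iSup_congr (fun n => seqG_top _)

theorem subtype_inj (H : Subgroup G) : ∀ a ∈ (⊤ : Subgroup H), ∀ b ∈ (⊤ : Subgroup H),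
    H.subtype a = H.subtype b → a = b := fun _ _ _ _ h => H.subtype_injective h

theorem map_top_subtype (H : Subgroup G) : (⊤ : Subgroup H).map H.subtype = H := by
  rw [← MonoidHom.range_eq_map, Subgroup.range_subtype]

theorem map_puigSeq (H : Subgroup G) (n : ℕ) :
    (Cfsg.puigSeq ↥H n).map H.subtype = seqG H n := by
  rw [← seqG_top, map_seqG H.subtype ⊤ (subtype_inj H), map_top_subtype]

theorem map_puigSubgroup (H : Subgroup G) :
    (Cfsg.puigSubgroup ↥H).map H.subtype = upG H := by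
  rw [← upG_top, map_upG H.subtype ⊤ (subtype_inj H), map_top_subtype]

theorem map_puigLower (H : Subgroup G) :
    (Cfsg.puigLower ↥H).map H.subtype = lowG H := by
  rw [← lowG_top, map_lowG H.subtype ⊤ (subtype_inj H), map_top_subtype]

theorem map_puigStep (H : Subgroup G) (X : Subgroup H) :
    (Cfsg.puigStep X).map H.subtype = stepG H (X.map H.subtype) := by
  rw [← stepG_top, map_stepG H.subtype ⊤ X le_top (subtype_inj H), map_top_subtype]

theorem stepG_lowG (H : Subgroup G) [Finite H] : stepG H (lowG H) = upG H := by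
  rw [← map_puigLower, ← map_puigStep, ← map_puigSubgroup]
  congr 1
  exact (Cfsg.Agent.S1467.result (G := ↥H)).2.2.2.2.2.1

theorem stepG_upG (H : Subgroup G) [Finite H] : stepG H (upG H) = lowG H := by
  rw [← map_puigLower, ← map_puigSubgroup, ← map_puigStep]
  congr 1
  exact (Cfsg.Agent.S1467.result (G := ↥H)).2.2.2.2.2.2

theorem lowG_le_upG (H : Subgroup G) : lowG H ≤ upG H := by
  rw [← map_puigLower, ← map_puigSubgroup]
  apply Subgroup.map_mono
  unfold Cfsg.puigLower Cfsg.puigSubgroup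
  exact iSup_le (fun n => le_iInf (fun m => Cfsg.Agent.S1467.even_le_odd_all n m))

theorem cent_transfer (H : Subgroup G) (L : Subgroup H)
    (h : Subgroup.centralizer (L : Set H) ≤ L) :
    H ⊓ Subgroup.centralizer ((L.map H.subtype : Subgroup G) : Set G) ≤ L.map H.subtype := by
  intro x hx
  obtain ⟨hxH, hxC⟩ := Subgroup.mem_inf.mp hx
  have h2 : (⟨x, hxH⟩ : H) ∈ Subgroup.centralizer (L : Set H) := by
    rw [Subgroup.mem_centralizer_iff]
    intro y hy
    apply Subtype.ext
    exact Subgroup.mem_centralizer_iff.mp hxC _ (Subgroup.mem_map_of_mem _ hy)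
  exact ⟨⟨x, hxH⟩, h h2, rfl⟩

theorem cent_triv (H L : Subgroup G) (hs : Subsingleton H) :
    H ⊓ Subgroup.centralizer (L : Set G) ≤ L := by
  intro x hx
  have h1 : (⟨x, (Subgroup.mem_inf.mp hx).1⟩ : H) = 1 := Subsingleton.elim _ _
  have hx1 : x = 1 := congrArg Subtype.val h1
  rw [hx1]; exact Subgroup.one_mem _

theorem cent_seqG [Finite G] (p : ℕ) [Fact p.Prime] (H : Subgroup G) (hH : IsPGroup p H)
    (i : ℕ) (hi : 0 < i) :
    H ⊓ Subgroup.centralizer (seqG H i : Set G) ≤ seqG H i := by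
  rcases subsingleton_or_nontrivial ↥H with hs | hn
  · exact cent_triv H _ hs
  · rw [← map_puigSeq]
    exact cent_transfer H _ ((Cfsg.Agent.S1466.result p hH).1 i hi).2

theorem cent_upG [Finite G] (p : ℕ) [Fact p.Prime] (H : Subgroup G) (hH : IsPGroup p H) :
    H ⊓ Subgroup.centralizer (upG H : Set G) ≤ upG H := by
  rcases subsingleton_or_nontrivial ↥H with hs | hn
  · exact cent_triv H _ hs
  · rw [← map_puigSubgroup]
    exact cent_transfer H _ (Cfsg.Agent.S1466.result p hH).2.2.1.2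

theorem conj_inj (H : Subgroup G) (g : G) : ∀ a ∈ H, ∀ b ∈ H,
    (MulAut.conj g).toMonoidHom a = (MulAut.conj g).toMonoidHom b → a = b :=
  fun _ _ _ _ h => (MulAut.conj g).injective h

theorem map_conj_eq_of_normal (T : Subgroup G) [hT : T.Normal] (g : G) :
    T.map (MulAut.conj g).toMonoidHom = T := by
  apply le_antisymm
  · rintro _ ⟨x, hx, rfl⟩
    exact hT.conj_mem x hx g
  · intro x hx
    refine ⟨g⁻¹ * x * g, ?_, ?_⟩
    · have h1 := hT.conj_mem x hx g⁻¹
      rw [inv_inv] at h1; exact h1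
    · show g * (g⁻¹ * x * g) * g⁻¹ = x
      group

theorem normal_of_map_conj (L : Subgroup G)
    (h : ∀ g : G, L.map (MulAut.conj g).toMonoidHom = L) : L.Normal := by
  constructor
  intro x hx g
  have h1 : g * x * g⁻¹ ∈ L.map (MulAut.conj g).toMonoidHom := ⟨x, hx, rfl⟩
  rw [h g] at h1; exact h1

theorem seqG_normal (T : Subgroup G) [T.Normal] (n : ℕ) : (seqG T n).Normal :=
  normal_of_map_conj _ (fun g => by
    rw [map_seqG _ T (conj_inj T g) n, map_conj_eq_of_normal])

theorem upG_normal (T : Subgroup G) [T.Normal] : (upG T).Normal :=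
  normal_of_map_conj _ (fun g => by
    rw [map_upG _ T (conj_inj T g), map_conj_eq_of_normal])

/-- the comparison of the Puig series of a Sylow subgroup and of `O_p(G)` -/
theorem seq_compare {G : Type*} [Group G] [Finite G] [Group.IsSolvable G]
    (hodd : Odd (Nat.card G)) (p : ℕ) [Fact p.Prime] (hp : p ≠ 2)
    (hO : Cfsg.pPrimeCore p G = ⊥) (S : Sylow p G) (n : ℕ) :
    seqG (S : Subgroup G) (2 * n) ≤ seqG (Cfsg.pCore p G) (2 * n) ∧
      seqG (Cfsg.pCore p G) (2 * n + 1) ≤ seqG (S : Subgroup G) (2 * n + 1) := by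
  have hTS : Cfsg.pCore p G ≤ (S : Subgroup G) :=
    Cfsg.Agent.Lib.Helper12.SylowBasic.pCore_le_sylow S
  have hTp : IsPGroup p (Cfsg.pCore p G) := S.isPGroup'.to_le hTS
  induction n with
  | zero =>
    refine ⟨bot_le, ?_⟩
    exact stepG_mono hTS le_rfl
  | succ k ih =>
    have e1 : 2 * (k + 1) = (2 * k + 1) + 1 := by ring
    rw [e1]
    have hA : seqG (S : Subgroup G) (2 * k + 1 + 1) ≤ seqG (Cfsg.pCore p G) (2 * k + 1 + 1) := by
      rw [seqG_succ, seqG_succ]
      apply stepG_le_stepG ih.2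
      have hPn : (seqG (Cfsg.pCore p G) (2 * k + 1)).Normal := seqG_normal _ _
      have h1 := (Cfsg.Agent.S1465.result hodd p hp (seqG (Cfsg.pCore p G) (2 * k + 1))
        (hTp.to_le (seqG_le _ _))
        {A : Subgroup G | A ≤ (S : Subgroup G) ∧ IsMulCommutative A ∧
          seqG (S : Subgroup G) (2 * k + 1) ≤ Subgroup.normalizer (A : Set G)}
        (fun B hB => ⟨hB.2.1, S.isPGroup'.to_le hB.1, ih.2.trans hB.2.2⟩)).2 hO
        (cent_seqG p _ hTp _ (Nat.succ_pos _))
      exact h1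
    refine ⟨hA, ?_⟩
    rw [seqG_succ, seqG_succ (S : Subgroup G)]
    exact stepG_mono hTS hA

theorem upG_eq_of_le {S H : Subgroup G} [Finite S] (h1 : upG S ≤ H) (h2 : H ≤ S) :
    upG H = upG S := by
  have hA : ∀ n, seqG S (2 * n) ≤ seqG H (2 * n) ∧ seqG H (2 * n + 1) ≤ seqG S (2 * n + 1) := by
    intro n
    induction n with
    | zero => exact ⟨bot_le, stepG_mono h2 le_rfl⟩
    | succ k ih =>
      have e1 : 2 * (k + 1) = (2 * k + 1) + 1 := by ring
      have hA1 : seqG S (2 * k + 1 + 1) ≤ seqG H (2 * k + 1 + 1) := by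
        rw [seqG_succ, seqG_succ]
        apply stepG_le_stepG ih.2
        have h3 : seqG S (2 * (k + 1)) ≤ lowG S := le_iSup (fun n => seqG S (2 * n)) (k + 1)
        rw [e1, seqG_succ] at h3
        exact h3.trans ((lowG_le_upG S).trans h1)
      rw [e1]
      refine ⟨hA1, ?_⟩
      rw [seqG_succ, seqG_succ S]
      exact stepG_mono h2 hA1
  have hB1 : ∀ X : Subgroup G, X ≤ lowG S → upG S ≤ stepG H X := by
    intro X hX
    have h3 := stepG_le_stepG (H := S) (H' := H) (X := lowG S) (X' := X) hX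
      (by rw [stepG_lowG]; exact h1)
    rw [stepG_lowG] at h3; exact h3
  have hB2 : ∀ Y : Subgroup G, upG S ≤ Y → stepG H Y ≤ lowG S := by
    intro Y hY
    have h3 := stepG_mono (H := H) (H' := S) (X := Y) (X' := upG S) h2 hY
    rw [stepG_upG] at h3; exact h3
  have hB : ∀ n, seqG H (2 * n) ≤ lowG S := by
    intro n
    induction n with
    | zero => exact bot_le
    | succ k ih =>
      have e1 : 2 * (k + 1) = (2 * k + 1) + 1 := by ring
      rw [e1, seqG_succ, seqG_succ]
      exact hB2 _ (hB1 _ ih)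
  apply le_antisymm
  · exact le_iInf (fun n => (iInf_le _ n).trans (hA n).2)
  · exact le_iInf (fun n => by rw [seqG_succ]; exact hB1 _ (hB n))

theorem center_map {R : Type*} [Group R] (L : Subgroup R) :
    (Subgroup.center ↥L).map L.subtype = L ⊓ Subgroup.centralizer (L : Set R) := by
  ext x
  constructor
  · rintro ⟨z, hz, rfl⟩
    refine Subgroup.mem_inf.mpr ⟨z.2, ?_⟩
    rw [Subgroup.mem_centralizer_iff]
    intro y hy
    have h1 := Subgroup.mem_center_iff.mp hz ⟨y, hy⟩
    exact congrArg Subtype.val h1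
  · intro hx
    obtain ⟨hxL, hxC⟩ := Subgroup.mem_inf.mp hx
    refine ⟨⟨x, hxL⟩, Subgroup.mem_center_iff.mpr ?_, rfl⟩
    intro y
    apply Subtype.ext
    exact Subgroup.mem_centralizer_iff.mp hxC y.1 y.2

/-- the centre of the Puig subgroup of `H`, viewed in the ambient group -/
theorem zpuig_eq (H : Subgroup G) :
    ((Subgroup.center ↥(Cfsg.puigSubgroup ↥H)).map (Cfsg.puigSubgroup ↥H).subtype).map H.subtype =
      upG H ⊓ Subgroup.centralizer (upG H : Set G) := by
  rw [center_map, map_zg H.subtype ⊤ _ le_top (subtype_inj H), map_puigSubgroup]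

end Cfsg.Agent.Lib.Helper5.Puig
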